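import Mathlib.RingTheory.MvPolynomial.Homogeneous
import Mathlib.Algebra.Order.Antidiag.FinsuppEquiv
import Mathlib.LinearAlgebra.Dimension.Finrank
import Mathlib.LinearAlgebra.Dimension.Constructions
import Mathlib.LinearAlgebra.Dimension.StrongRankCondition
import Mathlib.LinearAlgebra.FiniteDimensional.Defs

/-!
# Dimension of the space of homogeneous polynomials; homogeneous components of products
-/

set_option autoImplicit false
universe u

open MvPolynomial

namespace K581.HomDim

theorem finrank_homogeneous (k : Type u) [Field k] (r t : ℕ) :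
    Module.finrank k (homogeneousSubmodule (Fin (r + 1)) k t) = Nat.choose (t + r) r := by
  have h : homogeneousSubmodule (Fin (r + 1)) k t =
    AddMonoidAlgebra.supported k k {m : Fin (r + 1) →₀ ℕ | m.degree = t} :=
    homogeneousSubmodule_eq_finsupp_supported (Fin (r + 1)) k t
  rw [h, (AddMonoidAlgebra.supportedEquivFinsupp (R := k) (S := k)
    {m : Fin (r + 1) →₀ ℕ | m.degree = t}).finrank_eq]
  rw [Module.finrank, rank_finsupp_self, Cardinal.toNat_lift]
  have h2 : {m : Fin (r + 1) →₀ ℕ | m.degree = t} =
      ((Finset.univ : Finset (Fin (r + 1))).finsuppAntidiag t : Set (Fin (r + 1) →₀ ℕ)) := by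
    ext m
    simp [Finset.mem_finsuppAntidiag, Finsupp.degree_eq_sum]
  rw [h2]
  change Nat.card _ = _
  rw [Nat.card_coe_set_eq, Set.ncard_coe_finset, Finset.card_finsuppAntidiag_nat_eq_choose]
  rw [Finset.card_univ, Fintype.card_fin]
  rw [show r + 1 + t - 1 = t + r by omega, Nat.choose_symm_add]

theorem finite_homogeneous (k : Type u) [Field k] (r t : ℕ) :
    Module.Finite k (homogeneousSubmodule (Fin (r + 1)) k t) := by
  apply Module.finite_of_finrank_pos
  rw [finrank_homogeneous]
  exact Nat.choose_pos (by omega)

theorem homogeneousComponent_mul {σ : Type*} {R : Type*} [CommRing R] (g f : MvPolynomial σ R)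
    {e : ℕ} (hg : g.IsHomogeneous e) (d : ℕ) :
    homogeneousComponent (e + d) (g * f) = g * homogeneousComponent d f := by
  conv_lhs => rw [← sum_homogeneousComponent f, Finset.mul_sum, map_sum]
  have h1 : ∀ i, homogeneousComponent (e + d) (g * homogeneousComponent i f) =
      if i = d then g * homogeneousComponent d f else 0 := by
    intro i
    rw [homogeneousComponent_of_mem (m := e + d) (n := e + i)
      (hg.mul (homogeneousComponent_isHomogeneous i f))]
    by_cases hi : i = d
    · subst hi; simp
    · rw [if_neg (by omega), if_neg hi]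
  rw [Finset.sum_congr rfl fun i _ => h1 i, Finset.sum_ite_eq']
  split_ifs with h
  · rfl
  · rw [homogeneousComponent_eq_zero, mul_zero]
    simpa using h

end K581.HomDim
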