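import Groth.Agent.CalgB.Minors
import Mathlib.LinearAlgebra.Matrix.Adjugate

/-!
# Perturbing a matrix by a square-zero ideal killed by the submaximal minors does not change the
determinant
-/

set_option autoImplicit false
universe u v

namespace K581.DetPert

open CAlgX Matrix Groth.Agent.CalgB.Minors

variable {C : Type u} [CommRing C]

lemma det_perturb {r : ℕ} (N : Ideal C) (hN : ∀ x ∈ N, ∀ y ∈ N, x * y = 0)
    (M E : Matrix (Fin (r + 1)) (Fin (r + 1)) C) (hE : ∀ i j, E i j ∈ N)
    (hM : ∀ d ∈ minorIdeal M r, ∀ y ∈ N, d * y = 0) : (M + E).det = M.det := by
  classical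
  let Ms : Finset (Fin (r + 1)) → Matrix (Fin (r + 1)) (Fin (r + 1)) C := fun s =>
    Matrix.of fun i j => if i ∈ s then M i j + E i j else M i j
  have key : ∀ s, (Ms s).det = M.det := by
    intro s
    induction s using Finset.induction_on with
    | empty =>
      congr 1
    | insert i s hi ih =>
      have h1 : Ms (insert i s) = (Ms s).updateRow i ((Ms s) i + E i) := by
        ext a b
        by_cases ha : a = i
        · subst ha
          rw [Matrix.updateRow_self]
          simp [Ms, hi]
        · rw [Matrix.updateRow_ne ha]
          simp [Ms, ha]
      rw [h1, Matrix.det_updateRow_add, Matrix.updateRow_eq_self, ih]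
      have h2 : ((Ms s).updateRow i (E i)).det = 0 := by
        rw [Matrix.det_succ_row _ i]
        refine Finset.sum_eq_zero fun j _ => ?_
        rw [Matrix.updateRow_self]
        have h3 : ((Ms s).updateRow i (E i)).submatrix i.succAbove j.succAbove =
            (Ms s).submatrix i.succAbove j.succAbove := by
          ext a b
          simp
        rw [h3]
        have h4 : ((Ms s).submatrix i.succAbove j.succAbove).det -
            (M.submatrix i.succAbove j.succAbove).det ∈ N := by
          rw [← Ideal.Quotient.eq, RingHom.map_det, RingHom.map_det]
          congr 1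
          ext a b
          simp only [RingHom.mapMatrix_apply, Matrix.map_apply, Matrix.submatrix_apply, Ms,
            Matrix.of_apply]
          split_ifs
          · rw [map_add, Ideal.Quotient.eq_zero_iff_mem.2 (hE _ _), add_zero]
          · rfl
        have h5 := hN _ (hE i j) _ h4
        have h6 := hM _ (det_mem_minorIdeal M i.succAbove j.succAbove) _ (hE i j)
        rw [mul_sub] at h5
        rw [mul_comm] at h6
        rw [h6, sub_zero] at h5
        rw [mul_assoc, h5, mul_zero]
      rw [h2, add_zero]
  have h1 := key Finset.univ
  rw [← h1]
  congr 1
  ext i j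
  simp [Ms]

end K581.DetPert
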