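import Groth.Agent.CAlgX.K581.McCoy
import Groth.Agent.CalgB.BuchEis4

/-!
# Finite free resolutions of ideals: the rank of a nonzero ideal with a finite free resolution is one,
and the ideal contains a non-zero-divisor
-/

set_option autoImplicit false
universe u

namespace K581.FFR

open CAlgX Matrix Groth.Agent.CalgB.Minors Groth.Agent.CalgB.BuchEis

variable {R : Type u} [CommRing R]

/-- prepend rank one -/
def n' (n : ℕ → ℕ) : ℕ → ℕ
  | 0 => 1
  | i + 1 => n i

/-- the augmented sequence of matrices -/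
def A' (e : ℕ) (n : ℕ → ℕ) (A : (i : ℕ) → Matrix (Fin (n i)) (Fin (n (i + 1))) R)
    (P : Matrix (Fin 1) (Fin (n 0)) R) : (i : ℕ) → Matrix (Fin (n' n i)) (Fin (n' n (i + 1))) R
  | 0 => P
  | i + 1 => if i ≤ e then A i else 0

section

variable [IsNoetherianRing R] (e : ℕ) (n : ℕ → ℕ)
  (A : (i : ℕ) → Matrix (Fin (n i)) (Fin (n (i + 1))) R) (P : Matrix (Fin 1) (Fin (n 0)) R)

/-- at every associated prime the ranks are the expected ones -/
theorem exists_rk (hPA : P * A 0 = 0) (hexP : Ex P (A 0))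
    (hAA : ∀ i, i + 1 ≤ e → A i * A (i + 1) = 0) (hex : ∀ i, i + 1 ≤ e → Ex (A i) (A (i + 1)))
    (hlast : ∀ v, A e *ᵥ v = 0 → v = 0) (q : Ideal R) (hq : q ∈ associatedPrimes R R) [q.IsPrime] :
    ∃ r : ℕ → ℕ, RK (e + 2) (n' n) r ∧
      SR (P.map (algebraMap R (Localization.AtPrime q))) (r 1) := by
  obtain ⟨r, hr, hr2⟩ := exists_rk_at_assoc q hq (e + 2) (n' n) (A' e n A P)
    (by
      change (if e + 1 ≤ e then A (e + 1) else 0) = 0
      rw [if_neg (by omega)])
    (by
      intro i hi
      rcases i with _ | i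
      · change P * (if 0 ≤ e then A 0 else 0) = 0
        rw [if_pos (Nat.zero_le _), hPA]
      · change (if i ≤ e then A i else 0) * (if i + 1 ≤ e then A (i + 1) else 0) = 0
        by_cases h : i + 1 ≤ e
        · rw [if_pos (by omega), if_pos h, hAA i h]
        · rw [if_neg h, Matrix.mul_zero])
    (by
      intro i hi
      rcases i with _ | i
      · change Ex P (if 0 ≤ e then A 0 else 0)
        rw [if_pos (Nat.zero_le _)]
        exact hexP
      · change Ex (if i ≤ e then A i else 0) (if i + 1 ≤ e then A (i + 1) else 0)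
        by_cases h : i + 1 ≤ e
        · rw [if_pos (by omega), if_pos h]
          exact hex i h
        · obtain rfl : i = e := by omega
          rw [if_pos le_rfl, if_neg h]
          intro v hv
          exact ⟨0, by rw [hlast v hv, Matrix.mulVec_zero]⟩)
  exact ⟨r, hr, hr2 0 (by omega)⟩

lemma entry_mem (i : Fin (n 0)) : P 0 i ∈ minorIdeal P 1 := by
  have := det_mem_minorIdeal P (r := 1) (fun _ => 0) (fun _ => i)
  rwa [Matrix.det_fin_one] at this

theorem main (hPA : P * A 0 = 0) (hexP : Ex P (A 0))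
    (hAA : ∀ i, i + 1 ≤ e → A i * A (i + 1) = 0) (hex : ∀ i, i + 1 ≤ e → Ex (A i) (A (i + 1)))
    (hlast : ∀ v, A e *ᵥ v = 0 → v = 0) (hP : P ≠ 0) :
    (∃ r : ℕ → ℕ, RK (e + 2) (n' n) r ∧ r 1 = 1) ∧ ∃ x ∈ minorIdeal P 1, x ∈ nonZeroDivisors R := by
  classical
  have hrk := exists_rk e n A P hPA hexP hAA hex hlast
  have : Nontrivial R := by
    by_contra hcon
    rw [not_nontrivial_iff_subsingleton] at hcon
    exact hP (Subsingleton.elim _ _)
  obtain ⟨q₀, hq₀⟩ := associatedPrimes.nonempty R R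
  have hq₀p : q₀.IsPrime := hq₀.isPrime
  obtain ⟨r, hr, hr1⟩ := hrk q₀ hq₀
  have hrq : ∀ q ∈ associatedPrimes R R, ∀ _ : q.IsPrime,
      SR (P.map (algebraMap R (Localization.AtPrime q))) (r 1) := by
    intro q hq hqp
    obtain ⟨r', hr', hr1'⟩ := hrk q hq
    rw [hr.unique hr' 1 le_rfl (by omega)]
    exact hr1'
  have h1 : r 1 ≤ 1 := by
    by_contra hcon
    have h2 := hr1.minorIdeal_eq_top
    rw [minorIdeal_eq_bot_of_card_lt _ (by simp; omega)] at h2
    exact bot_ne_top h2
  have h2 : r 1 ≠ 0 := by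
    intro h0
    apply hP
    ext i j
    refine eq_zero_of_assoc _ fun q hq hqp => ?_
    have h3 := (hrq q hq hqp).minorIdeal_eq_bot
    rw [h0, zero_add] at h3
    have h4 := det_mem_minorIdeal (P.map (algebraMap R (Localization.AtPrime q))) (r := 1)
      (fun _ => i) (fun _ => j)
    rw [h3, Matrix.det_fin_one] at h4
    exact h4
  have h3 : r 1 = 1 := by omega
  refine ⟨⟨r, hr, h3⟩, ?_⟩
  by_contra hcon
  push Not at hcon
  have h4 := Ideal.bot_lt_annihilator_of_disjoint_nonZeroDivisors (I := minorIdeal P 1)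
    (Set.disjoint_left.2 fun a ha ha' => hcon a ha ha')
  -- a nonzero element killed by the ideal vanishes at all associated primes
  obtain ⟨x, hx, hx0⟩ := Submodule.exists_mem_ne_zero_of_ne_bot h4.ne'
  apply hx0
  refine eq_zero_of_assoc _ fun q hq hqp => ?_
  have h5 := (hrq q hq hqp).minorIdeal_eq_top
  rw [h3, minorIdeal_map, Ideal.eq_top_iff_one] at h5
  have h6 : (minorIdeal P 1).map (algebraMap R (Localization.AtPrime q)) ≤
      (Submodule.span (Localization.AtPrime q)
        {algebraMap R (Localization.AtPrime q) x}).annihilator := by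
    rw [Ideal.map_le_iff_le_comap]
    intro a ha
    rw [Ideal.mem_comap, Submodule.mem_annihilator_span_singleton, smul_eq_mul, ← map_mul]
    have h7 := Submodule.mem_annihilator.1 hx a ha
    rw [mul_comm]
    have h8 : x * a = 0 := h7
    rw [h8, map_zero]
  have h7 := h6 h5
  rwa [Submodule.mem_annihilator_span_singleton, one_smul] at h7

end

end K581.FFR
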