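import Mathlib.RingTheory.Flat.Equalizer
import Mathlib.RingTheory.Flat.Tensor
import Mathlib.LinearAlgebra.TensorProduct.Pi

/-!
# Extensions and finite powers of flat modules
-/

set_option autoImplicit false
universe u v w x

namespace K581.FlatExt

open TensorProduct

variable {A : Type u} [CommRing A]

/-- An extension of flat modules is flat. -/
theorem flat_of_exact {M : Type v} {N : Type w} {P : Type x} [AddCommGroup M] [Module A M]
    [AddCommGroup N] [Module A N] [AddCommGroup P] [Module A P]
    (f : M →ₗ[A] N) (g : N →ₗ[A] P) (hf : Function.Injective f) (hg : Function.Surjective g)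
    (H : Function.Exact f g) (hM : Module.Flat A M) (hP : Module.Flat A P) :
    Module.Flat A N := by
  rw [Module.Flat.iff_rTensor_injective']
  intro I
  rw [injective_iff_map_eq_zero]
  intro x hx
  have h1 : (I.subtype.rTensor P) ((g.lTensor I) x) = 0 := by
    rw [← LinearMap.comp_apply, LinearMap.rTensor_comp_lTensor, ← LinearMap.lTensor_comp_rTensor,
      LinearMap.comp_apply, hx, map_zero]
  have h2 : (g.lTensor I) x = 0 := by
    apply Module.Flat.rTensor_preserves_injective_linearMap (M := P) I.subtype
      (Submodule.subtype_injective I)
    rw [h1, map_zero]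
  obtain ⟨y, rfl⟩ := (lTensor_exact I H hg x).mp h2
  have h3 : (f.lTensor A) ((I.subtype.rTensor M) y) = 0 := by
    rw [← LinearMap.comp_apply, LinearMap.lTensor_comp_rTensor, ← LinearMap.rTensor_comp_lTensor,
      LinearMap.comp_apply, hx]
  have h4 : (I.subtype.rTensor M) y = 0 := by
    apply Module.Flat.lTensor_preserves_injective_linearMap (M := A) f hf
    rw [h3, map_zero]
  have h5 : y = 0 := by
    apply Module.Flat.rTensor_preserves_injective_linearMap (M := M) I.subtype
      (Submodule.subtype_injective I)
    rw [h4, map_zero]
  rw [h5, map_zero]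

/-- A finite power of a flat module is flat. -/
theorem flat_pi {ι : Type w} [Finite ι] {M : Type v} [AddCommGroup M] [Module A M]
    (hM : Module.Flat A M) : Module.Flat A (ι → M) := by
  classical
  have := Fintype.ofFinite ι
  exact Module.Flat.of_linearEquiv
    (DFinsupp.linearEquivFunOnFintype (R := A) (M := fun _ : ι => M)).symm

end K581.FlatExt
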