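import Groth.Agent.CalgB.Minors
import Mathlib.RingTheory.Smooth.Locus
import Mathlib.RingTheory.MvPolynomial.Basic
import Mathlib.RingTheory.Ideal.Quotient.Operations
import Mathlib.LinearAlgebra.Matrix.MvPolynomial

/-!
# Generic determinantal rings: smoothness at primes not containing the ideal of `r × r` minors
-/

set_option autoImplicit false
universe u v

namespace K581.GenDet

open CAlgX Matrix Groth.Agent.CalgB.Minors

section Explicit

variable {R : Type u} [CommRing R] {m n : Type} [Fintype m] [Fintype n]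

/-- explicit rank factorization through an invertible minor -/
lemma eq_mul_inv_mul {A : Matrix m n R} {r : ℕ} (f : Fin r → m) (g : Fin r → n)
    (hu : IsUnit (A.submatrix f g).det) (h0 : minorIdeal A (r + 1) = ⊥) :
    A = A.submatrix id g * (A.submatrix f g)⁻¹ * A.submatrix f id := by
  obtain ⟨P, Q, L, S, rfl, hL, hS⟩ := SR.of_isUnit f g hu h0
  have h1 : (P * Q).submatrix f g = P.submatrix f id * Q.submatrix id g := by
    ext i j; simp [Matrix.mul_apply]
  have h2 : (P * Q).submatrix id g = P * Q.submatrix id g := by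
    ext i j; simp [Matrix.mul_apply]
  have h3 : (P * Q).submatrix f id = P.submatrix f id * Q := by
    ext i j; simp [Matrix.mul_apply]
  rw [h1, Matrix.det_mul] at hu
  have hP : IsUnit (P.submatrix f id).det := isUnit_of_mul_isUnit_left hu
  have hQ : IsUnit (Q.submatrix id g).det := isUnit_of_mul_isUnit_right hu
  rw [h1, h2, h3, Matrix.mul_inv_rev]
  calc P * Q = P * (Q.submatrix id g * (Q.submatrix id g)⁻¹) *
        ((P.submatrix f id)⁻¹ * P.submatrix f id) * Q := by
          rw [Matrix.mul_nonsing_inv _ hQ, Matrix.nonsing_inv_mul _ hP, Matrix.mul_one,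
            Matrix.mul_one]
    _ = P * Q.submatrix id g * ((Q.submatrix id g)⁻¹ * (P.submatrix f id)⁻¹) *
        (P.submatrix f id * Q) := by
          simp only [Matrix.mul_assoc]

end Explicit

variable (k : Type u) [Field k] (n m : ℕ)

/-- the generic matrix -/
noncomputable abbrev gm : Matrix (Fin n) (Fin m) (MvPolynomial (Fin n × Fin m) k) :=
  Matrix.of fun (i : Fin n) (j : Fin m) => (MvPolynomial.X (i, j) : MvPolynomial (Fin n × Fin m) k)

variable {k n m} in
theorem formallySmooth {r : ℕ} {I : Ideal (MvPolynomial (Fin n × Fin m) k)}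
    (hI : I = minorIdeal (gm k n m) (r + 1))
    (P : Ideal (MvPolynomial (Fin n × Fin m) k ⧸ I)) [P.IsPrime]
    (f : Fin r → Fin n) (g : Fin r → Fin m)
    (h : Ideal.Quotient.mk _ ((gm k n m).submatrix f g).det ∉ P) :
    Algebra.FormallySmooth k (Localization.AtPrime P) := by
  refine Algebra.FormallySmooth.of_comp_surjective fun C _ _ N hN φ => ?_
  have hNil : IsNilpotent N := ⟨2, hN⟩
  let φB : (MvPolynomial (Fin n × Fin m) k ⧸ I) →ₐ[k] C ⧸ N := φ.comp
    (IsScalarTower.toAlgHom k (MvPolynomial (Fin n × Fin m) k ⧸ I) (Localization.AtPrime P))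
  let φA : MvPolynomial (Fin n × Fin m) k →ₐ[k] C ⧸ N := φB.comp (Ideal.Quotient.mkₐ k I)
  let M : Matrix (Fin n) (Fin m) (C ⧸ N) := (gm k n m).map φA
  have hunit : ∀ y, y ∉ P → IsUnit (φB y) := fun y hy =>
    (IsLocalization.map_units (Localization.AtPrime P) (⟨y, hy⟩ : P.primeCompl)).map φ
  have hMdet : IsUnit (M.submatrix f g).det := by
    have h1 : (M.submatrix f g).det = φB (Ideal.Quotient.mk I ((gm k n m).submatrix f g).det) := by
      have h2 := AlgHom.map_det φA ((gm k n m).submatrix f g)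
      exact h2.symm
    rw [h1]
    exact hunit _ h
  have hM0 : minorIdeal M (r + 1) = ⊥ := by
    have h1 : minorIdeal M (r + 1) = I.map (φA : MvPolynomial (Fin n × Fin m) k →+* C ⧸ N) := by
      rw [hI]
      exact minorIdeal_map (φA : MvPolynomial (Fin n × Fin m) k →+* C ⧸ N) (gm k n m) (r + 1)
    rw [h1, Ideal.map_eq_bot_iff_le_ker]
    intro x hx
    rw [RingHom.mem_ker]
    change φB (Ideal.Quotient.mk I x) = 0
    rw [Ideal.Quotient.eq_zero_iff_mem.2 hx, map_zero]
  choose M' hM' using fun i j => Ideal.Quotient.mk_surjective (I := N) (M i j)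
  let Mt : Matrix (Fin n) (Fin m) C := Matrix.of M'
  have hMt : Mt.map (Ideal.Quotient.mk N) = M := by
    ext i j; exact hM' i j
  let D := Mt.submatrix f g
  have hD : IsUnit D.det := by
    rw [← IsNilpotent.isUnit_quotient_mk_iff hNil, RingHom.map_det]
    have h1 : (Ideal.Quotient.mk N).mapMatrix D = M.submatrix f g := by
      rw [← hMt]; rfl
    rw [h1]
    exact hMdet
  let W : Matrix (Fin n) (Fin m) C := Mt.submatrix id g * D⁻¹ * Mt.submatrix f id
  have hW0 : minorIdeal W (r + 1) = ⊥ := by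
    rw [eq_bot_iff]
    refine (minorIdeal_mul_le_right _ _ (r + 1)).trans ?_
    rw [minorIdeal_eq_bot_of_card_lt _ (by simp)]
  have hWM : W.map (Ideal.Quotient.mk N) = M := by
    conv_rhs => rw [eq_mul_inv_mul f g hMdet hM0]
    have h1 : (Ideal.Quotient.mk N).mapMatrix D = M.submatrix f g := by
      rw [← hMt]; rfl
    have h2 : D⁻¹.map (Ideal.Quotient.mk N) = (M.submatrix f g)⁻¹ := by
      symm
      apply Matrix.inv_eq_left_inv
      rw [← h1]
      change (Ideal.Quotient.mk N).mapMatrix D⁻¹ * (Ideal.Quotient.mk N).mapMatrix D = 1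
      rw [← map_mul, Matrix.nonsing_inv_mul _ hD, map_one]
    change (Mt.submatrix id g * D⁻¹ * Mt.submatrix f id).map (Ideal.Quotient.mk N) = _
    rw [Matrix.map_mul, Matrix.map_mul, h2, ← hMt]
    rfl
  let ψ : MvPolynomial (Fin n × Fin m) k →ₐ[k] C := MvPolynomial.aeval fun ij => W ij.1 ij.2
  have hψW : (gm k n m).map (ψ : MvPolynomial (Fin n × Fin m) k →+* C) = W := by
    ext i j
    simp [ψ, gm]
  have hψI : ∀ x ∈ I, ψ x = 0 := by
    have h1 := minorIdeal_map (ψ : MvPolynomial (Fin n × Fin m) k →+* C) (gm k n m) (r + 1)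
    rw [hψW, hW0] at h1
    intro x hx
    rw [hI] at hx
    have h2 : ψ x ∈ (minorIdeal (gm k n m) (r + 1)).map
      (ψ : MvPolynomial (Fin n × Fin m) k →+* C) := Ideal.mem_map_of_mem _ hx
    rw [← h1] at h2
    exact h2
  let ψB : (MvPolynomial (Fin n × Fin m) k ⧸ I) →ₐ[k] C := Ideal.Quotient.liftₐ I ψ hψI
  have hcomp : (Ideal.Quotient.mkₐ k N).comp ψB = φB := by
    apply Ideal.Quotient.algHom_ext
    apply MvPolynomial.algHom_ext
    intro ij
    change Ideal.Quotient.mk N (ψ (MvPolynomial.X ij)) = φA (MvPolynomial.X ij)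
    rw [MvPolynomial.aeval_X]
    exact congrFun (congrFun hWM ij.1) ij.2
  have hψunit : ∀ y : P.primeCompl, IsUnit (ψB y) := by
    intro y
    rw [← IsNilpotent.isUnit_quotient_mk_iff hNil]
    have h1 : Ideal.Quotient.mk N (ψB y) = φB y := DFunLike.congr_fun hcomp y.1
    rw [h1]
    exact hunit _ y.2
  refine ⟨IsLocalization.liftAlgHom (M := P.primeCompl) (f := ψB) hψunit, ?_⟩
  apply AlgHom.coe_ringHom_injective
  apply IsLocalization.ringHom_ext P.primeCompl
  refine RingHom.ext fun y => ?_
  change Ideal.Quotient.mk N (IsLocalization.liftAlgHom (M := P.primeCompl) (f := ψB) hψunit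
    (algebraMap _ (Localization.AtPrime P) y)) = φB y
  rw [IsLocalization.liftAlgHom_apply, IsLocalization.lift_eq]
  exact DFunLike.congr_fun hcomp y

end K581.GenDet
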