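import Groth.Agent.CAlgX.K581.GenDet
import Groth.Agent.CAlgX.K581.DetPert
import Mathlib.RingTheory.Nakayama
import Mathlib.RingTheory.Localization.AtPrime.Basic

/-!
# Generic determinantal rings: non-smoothness at primes containing the `r × r` minors
-/

set_option autoImplicit false
universe u v

namespace K581.GenDet

open CAlgX Matrix Groth.Agent.CalgB.Minors

variable {k : Type u} [Field k] {n m : ℕ}

/-- the lifting argument -/
theorem eq_zero_of_formallySmooth {r : ℕ} {I : Ideal (MvPolynomial (Fin n × Fin m) k)}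
    (hI : I = minorIdeal (gm k n m) (r + 1))
    (P : Ideal (MvPolynomial (Fin n × Fin m) k ⧸ I)) [P.IsPrime]
    (h : ∀ d ∈ minorIdeal (gm k n m) r, Ideal.Quotient.mk I d ∈ P)
    (hsm : Algebra.FormallySmooth k (Localization.AtPrime P))
    (C : Type u) [CommRing C] [Algebra k C] (N : Ideal C)
    (hNN : ∀ x ∈ N, ∀ y ∈ N, x * y = 0)
    (α : MvPolynomial (Fin n × Fin m) k →ₐ[k] C) (hα : ∀ x ∈ I, α x ∈ N)
    (hu : ∀ x, Ideal.Quotient.mk I x ∉ P → IsUnit (α x))
    (hpN : ∀ x, Ideal.Quotient.mk I x ∈ P → ∀ y ∈ N, α x * y = 0) :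
    ∀ x ∈ I, α x = 0 := by
  have hN2 : N ^ 2 = ⊥ := by
    rw [eq_bot_iff, pow_two, Ideal.mul_le]
    exact fun x hx y hy => (hNN x hx y hy)
  let αN : MvPolynomial (Fin n × Fin m) k →ₐ[k] C ⧸ N := (Ideal.Quotient.mkₐ k N).comp α
  have hαN : ∀ x ∈ I, αN x = 0 := fun x hx => by
    change Ideal.Quotient.mk N (α x) = 0
    rw [Ideal.Quotient.eq_zero_iff_mem]
    exact hα x hx
  let βN : (MvPolynomial (Fin n × Fin m) k ⧸ I) →ₐ[k] C ⧸ N := Ideal.Quotient.liftₐ I αN hαN
  have hunit : ∀ y : P.primeCompl, IsUnit (βN y) := by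
    rintro ⟨y, hy⟩
    obtain ⟨y, rfl⟩ := Ideal.Quotient.mk_surjective y
    change IsUnit (Ideal.Quotient.mk N (α y))
    exact (hu y hy).map _
  let γ : Localization.AtPrime P →ₐ[k] C ⧸ N :=
    IsLocalization.liftAlgHom (M := P.primeCompl) (f := βN) hunit
  obtain ⟨σ, hσ⟩ := Algebra.FormallySmooth.comp_surjective k (Localization.AtPrime P) N hN2 γ
  let δ : MvPolynomial (Fin n × Fin m) k →ₐ[k] C :=
    (σ.comp (IsScalarTower.toAlgHom k (MvPolynomial (Fin n × Fin m) k ⧸ I)
      (Localization.AtPrime P))).comp (Ideal.Quotient.mkₐ k I)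
  have hδ : ∀ x, δ x - α x ∈ N := by
    intro x
    rw [← Ideal.Quotient.eq]
    have h1 : Ideal.Quotient.mk N (σ (algebraMap _ (Localization.AtPrime P)
      (Ideal.Quotient.mk I x))) = γ (algebraMap _ (Localization.AtPrime P)
      (Ideal.Quotient.mk I x)) := DFunLike.congr_fun hσ _
    refine h1.trans ?_
    change IsLocalization.liftAlgHom (M := P.primeCompl) (f := βN) hunit _ = _
    rw [IsLocalization.liftAlgHom_apply, IsLocalization.lift_eq]
    rfl
  have hδI : ∀ x ∈ I, δ x = 0 := fun x hx => by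
    change σ (algebraMap _ (Localization.AtPrime P) (Ideal.Quotient.mk I x)) = 0
    rw [Ideal.Quotient.eq_zero_iff_mem.2 hx, map_zero, map_zero]
  have h1 : I ≤ RingHom.ker (α : MvPolynomial (Fin n × Fin m) k →+* C) := by
    rw [hI, minorIdeal_le_iff]
    intro f g
    rw [RingHom.mem_ker, RingHom.map_det]
    set M := (α : MvPolynomial (Fin n × Fin m) k →+* C).mapMatrix ((gm k n m).submatrix f g)
      with hM
    set W := (δ : MvPolynomial (Fin n × Fin m) k →+* C).mapMatrix ((gm k n m).submatrix f g)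
      with hW
    have h2 := K581.DetPert.det_perturb N hNN M (W - M) (fun i j => hδ _) (by
      intro d hd y hy
      have h3 : minorIdeal M r = (minorIdeal ((gm k n m).submatrix f g) r).map
        (α : MvPolynomial (Fin n × Fin m) k →+* C) := minorIdeal_map _ _ _
      have h4 : (minorIdeal ((gm k n m).submatrix f g) r).map
        (α : MvPolynomial (Fin n × Fin m) k →+* C) ≤
        (Submodule.span C {y}).annihilator := by
        rw [Ideal.map_le_iff_le_comap, minorIdeal_le_iff]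
        intro f' g'
        rw [Ideal.mem_comap, Submodule.mem_annihilator_span_singleton]
        have h5 : Ideal.Quotient.mk I (((gm k n m).submatrix f g).submatrix f' g').det ∈ P :=
          h _ (det_mem_minorIdeal (gm k n m) (f ∘ f') (g ∘ g'))
        exact hpN _ h5 y hy
      rw [h3] at hd
      have h5 := h4 hd
      rwa [Submodule.mem_annihilator_span_singleton] at h5)
    rw [add_sub_cancel] at h2
    rw [← h2, hW, ← RingHom.map_det]
    refine hδI _ ?_
    rw [hI]
    exact det_mem_minorIdeal _ _ _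
  exact fun x hx => h1 hx

theorem not_formallySmooth {r : ℕ} {I : Ideal (MvPolynomial (Fin n × Fin m) k)}
    (hI : I = minorIdeal (gm k n m) (r + 1)) (hI0 : I ≠ ⊥)
    (P : Ideal (MvPolynomial (Fin n × Fin m) k ⧸ I)) [P.IsPrime]
    (h : ∀ d ∈ minorIdeal (gm k n m) r, Ideal.Quotient.mk I d ∈ P) :
    ¬ Algebra.FormallySmooth k (Localization.AtPrime P) := by
  intro hsm
  apply hI0
  let p : Ideal (MvPolynomial (Fin n × Fin m) k) := P.comap (Ideal.Quotient.mk I)
  have hpp : p.IsPrime := Ideal.comap_isPrime _ _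
  have hIp : I ≤ p := fun x hx => by
    rw [Ideal.mem_comap, Ideal.Quotient.eq_zero_iff_mem.2 hx]
    exact P.zero_mem
  let 𝔪 := IsLocalRing.maximalIdeal (Localization.AtPrime p)
  let J : Ideal (Localization.AtPrime p) := I.map (algebraMap _ (Localization.AtPrime p))
  have hpm : ∀ x ∈ p, algebraMap _ (Localization.AtPrime p) x ∈ 𝔪 := fun x hx =>
    (IsLocalization.AtPrime.to_map_mem_maximal_iff (Localization.AtPrime p) p x).2 hx
  have hJm : J ≤ 𝔪 := Ideal.map_le_iff_le_comap.2 fun x hx => hpm x (hIp hx)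
  have hmN : ∀ x ∈ 𝔪, ∀ y ∈ J.map (Ideal.Quotient.mk (𝔪 * J)),
      Ideal.Quotient.mk (𝔪 * J) x * y = 0 := by
    intro x hx y hy
    rw [Ideal.mem_map_iff_of_surjective _ Ideal.Quotient.mk_surjective] at hy
    obtain ⟨z, hz, rfl⟩ := hy
    rw [← map_mul, Ideal.Quotient.eq_zero_iff_mem]
    exact Ideal.mul_mem_mul hx hz
  have hαI := eq_zero_of_formallySmooth hI P h hsm (Localization.AtPrime p ⧸ (𝔪 * J))
    (J.map (Ideal.Quotient.mk (𝔪 * J)))
    (by
      intro x hx y hy
      rw [Ideal.mem_map_iff_of_surjective _ Ideal.Quotient.mk_surjective] at hx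
      obtain ⟨z, hz, rfl⟩ := hx
      exact hmN z (hJm hz) y hy)
    ((Ideal.Quotient.mkₐ k (𝔪 * J)).comp (IsScalarTower.toAlgHom k _ (Localization.AtPrime p)))
    (fun x hx => Ideal.mem_map_of_mem _ (Ideal.mem_map_of_mem _ hx))
    (fun x hx => (IsLocalization.map_units (Localization.AtPrime p)
      (⟨x, hx⟩ : p.primeCompl)).map (Ideal.Quotient.mk (𝔪 * J)))
    (fun x hx y hy => hmN _ (hpm x hx) y hy)
  have hJJ : J ≤ 𝔪 • J := by
    rw [smul_eq_mul, Ideal.map_le_iff_le_comap]
    intro x hx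
    rw [Ideal.mem_comap, ← Ideal.Quotient.eq_zero_iff_mem]
    exact hαI x hx
  have hJfg : J.FG := by
    refine Ideal.FG.map ?_ _
    rw [hI]
    exact Submodule.fg_span (Set.finite_range _)
  have hJ0 : J = ⊥ := Submodule.eq_bot_of_le_smul_of_le_jacobson_bot 𝔪 J hJfg hJJ
    (IsLocalRing.maximalIdeal_le_jacobson _)
  rw [Ideal.map_eq_bot_iff_le_ker] at hJ0
  rw [eq_bot_iff]
  intro x hx
  have h1 : algebraMap _ (Localization.AtPrime p) x = 0 := hJ0 hx
  exact (IsLocalization.injective (Localization.AtPrime p) p.primeCompl_le_nonZeroDivisors)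
    (by rw [h1, map_zero])

theorem minorIdeal_gm_ne_bot {s : ℕ} (hn : s ≤ n) (hm : s ≤ m) :
    minorIdeal (gm k n m) s ≠ ⊥ := by
  intro h
  rw [minorIdeal_eq_bot_iff] at h
  have h1 := h (Fin.castLE hn) (Fin.castLE hm)
  have h2 := congrArg (MvPolynomial.eval (fun ij : Fin n × Fin m =>
    if (ij.1 : ℕ) = (ij.2 : ℕ) then (1 : k) else 0)) h1
  rw [map_zero, RingHom.map_det] at h2
  have h3 : (MvPolynomial.eval (fun ij : Fin n × Fin m =>
    if (ij.1 : ℕ) = (ij.2 : ℕ) then (1 : k) else 0)).mapMatrix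
    ((gm k n m).submatrix (Fin.castLE hn) (Fin.castLE hm)) = 1 := by
    ext i j
    simp [Matrix.one_apply, Fin.ext_iff]
  rw [h3, Matrix.det_one] at h2
  exact one_ne_zero h2

end K581.GenDet
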