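import Groth.Agent.CAlgX.K581.TrdegDim
import Groth.Agent.CAlgX.K581.GenDet

/-!
# Dimension of generic determinantal rings
-/

set_option autoImplicit false
universe u v

namespace K581.GenDetDim

open CAlgX Matrix Groth.Agent.CalgB.Minors K581.GenDet K581.TrdegDim

section Cramer

variable {D : Type u} [CommRing D] [IsDomain D] {m n : Type} [Fintype m] [Fintype n]

lemma smul_eq_mul_adjugate_mul {M : Matrix m n D} {s : ℕ} (f : Fin s → m) (g : Fin s → n)
    (hd : (M.submatrix f g).det ≠ 0) (h0 : minorIdeal M (s + 1) = ⊥) :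
    (M.submatrix f g).det • M = M.submatrix id g * (M.submatrix f g).adjugate * M.submatrix f id := by
  let K := FractionRing D
  let φ := algebraMap D K
  have hφ : Function.Injective φ := IsFractionRing.injective D K
  have hdet : ((M.map φ).submatrix f g).det = φ (M.submatrix f g).det := by
    rw [RingHom.map_det]; rfl
  have hu : IsUnit ((M.map φ).submatrix f g).det := by
    rw [hdet, isUnit_iff_ne_zero]
    exact fun h => hd (hφ (by rw [h, map_zero]))
  have h1 : minorIdeal (M.map φ) (s + 1) = ⊥ := by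
    rw [minorIdeal_map, h0, Ideal.map_bot]
  have h2 := eq_mul_inv_mul f g hu h1
  have h3 : φ (M.submatrix f g).det • (M.map φ) = (M.map φ).submatrix id g *
      ((M.map φ).submatrix f g).adjugate * (M.map φ).submatrix f id := by
    conv_lhs => rw [h2]
    rw [Matrix.inv_def, hdet, Matrix.mul_smul, Matrix.smul_mul, smul_smul,
      Ring.mul_inverse_cancel _ (by rw [← hdet]; exact hu), one_smul]
  have h4 : ((M.submatrix f g).det • M).map φ = (M.submatrix id g *
      (M.submatrix f g).adjugate * M.submatrix f id).map φ := by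
    have h5 : ((M.submatrix f g).det • M).map φ = φ (M.submatrix f g).det • (M.map φ) := by
      ext i j; simp
    rw [h5, h3, Matrix.map_mul, Matrix.map_mul]
    have h6 : ((M.submatrix f g).adjugate).map φ = ((M.map φ).submatrix f g).adjugate :=
      RingHom.map_adjugate φ (M.submatrix f g)
    rw [h6]
    rfl
  ext i j
  exact hφ (congrFun (congrFun h4 i) j)

end Cramer

section SubAlg

variable {k : Type u} {D : Type v} [CommRing k] [CommRing D] [Algebra k D] (S : Subalgebra k D)

lemma mul_mem_sub {a b c : ℕ} (A : Matrix (Fin a) (Fin b) D) (B : Matrix (Fin b) (Fin c) D)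
    (hA : ∀ i j, A i j ∈ S) (hB : ∀ i j, B i j ∈ S) (i : Fin a) (j : Fin c) : (A * B) i j ∈ S := by
  rw [Matrix.mul_apply]
  exact Subalgebra.sum_mem _ fun l _ => Subalgebra.mul_mem _ (hA _ _) (hB _ _)

lemma det_mem_sub {a : ℕ} (A : Matrix (Fin a) (Fin a) D) (hA : ∀ i j, A i j ∈ S) : A.det ∈ S := by
  let A' : Matrix (Fin a) (Fin a) S := Matrix.of fun i j => ⟨A i j, hA i j⟩
  have h := RingHom.map_det S.val.toRingHom A'
  have hA' : S.val.toRingHom.mapMatrix A' = A := rfl
  rw [hA'] at h
  rw [← h]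
  exact (A'.det).2

lemma adjugate_mem_sub {a : ℕ} (A : Matrix (Fin a) (Fin a) D) (hA : ∀ i j, A i j ∈ S)
    (i j : Fin a) : A.adjugate i j ∈ S := by
  let A' : Matrix (Fin a) (Fin a) S := Matrix.of fun i j => ⟨A i j, hA i j⟩
  have h := RingHom.map_adjugate S.val.toRingHom A'
  have hA' : S.val.toRingHom.mapMatrix A' = A := rfl
  rw [hA'] at h
  rw [← h]
  exact (A'.adjugate i j).2

end SubAlg

variable (k : Type u) [Field k] {n m : ℕ}

/-- transcendence degree bound for domains generated by the entries of a matrix of bounded rank -/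
theorem trdeg_le {D : Type u} [CommRing D] [IsDomain D] [Algebra k D]
    (M : Matrix (Fin n) (Fin m) D) (hgen : Algebra.adjoin k (Set.range fun ij : Fin n × Fin m =>
      M ij.1 ij.2) = ⊤) (s : ℕ) (f : Fin s → Fin n) (g : Fin s → Fin m)
    (hd : (M.submatrix f g).det ≠ 0) (h0 : minorIdeal M (s + 1) = ⊥) :
    s ≤ m ∧ s ≤ n ∧ Algebra.trdeg k D ≤ ((s * (m + n - s) : ℕ) : Cardinal.{u}) := by
  classical
  have hf : Function.Injective f := by
    intro a b hab
    by_contra hne
    exact hd (Matrix.det_zero_of_row_eq hne (by ext c; simp [hab]))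
  have hg : Function.Injective g := by
    intro a b hab
    by_contra hne
    exact hd (Matrix.det_zero_of_column_eq hne (by intro c; simp [hab]))
  have hsn : s ≤ n := by simpa using Fintype.card_le_of_injective f hf
  have hsm : s ≤ m := by simpa using Fintype.card_le_of_injective g hg
  refine ⟨hsm, hsn, ?_⟩
  let ι := (Fin n × Fin s) ⊕ (Fin s × {j : Fin m // j ∉ Set.range g})
  let x : ι → D := Sum.elim (fun ij => M ij.1 (g ij.2)) (fun ij => M (f ij.1) ij.2)
  let S : Set D := Set.range x
  have hS1 : ∀ i j, M i (g j) ∈ Algebra.adjoin k S := fun i j =>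
    Algebra.subset_adjoin ⟨Sum.inl (i, j), rfl⟩
  have hS2 : ∀ i j, M (f i) j ∈ Algebra.adjoin k S := by
    intro i j
    by_cases hj : j ∈ Set.range g
    · obtain ⟨j', rfl⟩ := hj
      exact hS1 _ _
    · exact Algebra.subset_adjoin ⟨Sum.inr (i, ⟨j, hj⟩), rfl⟩
  have hdet : (M.submatrix f g).det ∈ Algebra.adjoin k S := det_mem_sub _ _ fun i j => hS1 _ _
  have halg : Algebra.IsAlgebraic (Algebra.adjoin k S) D := by
    refine isAlgebraic_of_adjoin _ _ hgen ?_
    rintro _ ⟨⟨i, j⟩, rfl⟩
    refine ⟨_, hdet, hd, ?_⟩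
    have h1 := congrFun (congrFun (smul_eq_mul_adjugate_mul f g hd h0) i) j
    rw [Matrix.smul_apply, smul_eq_mul] at h1
    rw [h1]
    exact mul_mem_sub _ _ _ (mul_mem_sub _ _ _ (fun i j => hS1 _ _)
      (adjugate_mem_sub _ _ fun i j => hS1 _ _)) (fun i j => hS2 _ _) i j
  have h1 : Algebra.trdeg k D ≤ Cardinal.mk S := Algebra.IsAlgebraic.trdeg_le_cardinalMk k S
  refine h1.trans ?_
  have h2 : Cardinal.mk S ≤ ((Fintype.card ι : ℕ) : Cardinal.{u}) := by
    have h3 : Fintype.card S ≤ Fintype.card ι :=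
      Fintype.card_le_of_surjective (Set.rangeFactorization x) Set.rangeFactorization_surjective
    rw [Cardinal.mk_fintype]
    exact_mod_cast h3
  refine h2.trans ?_
  rw [Nat.cast_le]
  have h3 : Fintype.card {j : Fin m // j ∉ Set.range g} = m - s := by
    rw [Fintype.card_subtype_compl, Fintype.card_fin]
    congr 1
    have := Set.card_range_of_injective hg
    rw [Fintype.card_fin] at this
    exact this
  have h4 : Fintype.card ι = n * s + s * (m - s) := by
    simp only [ι, Fintype.card_sum, Fintype.card_prod, Fintype.card_fin, h3]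
  rw [h4]
  obtain ⟨c, rfl⟩ := Nat.exists_eq_add_of_le hsm
  have h5 : s + c + n - s = c + n := by omega
  have h6 : s + c - s = c := by omega
  rw [h5, h6]
  apply le_of_eq
  ring

/-- the entries of the product of `[1; T]` and `Z` -/
theorem trdeg_ge (r c m : ℕ) (hrm : r ≤ m) :
    ∃ φ : MvPolynomial (Fin (r + c) × Fin m) k →ₐ[k]
        MvPolynomial ((Fin c × Fin r) ⊕ (Fin r × Fin m)) k,
      (∀ x ∈ minorIdeal (gm k (r + c) m) (r + 1), φ x = 0) ∧
      Algebra.trdeg k φ.range = ((r * (m + c) : ℕ) : Cardinal.{u}) := by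
  classical
  let E := MvPolynomial ((Fin c × Fin r) ⊕ (Fin r × Fin m)) k
  let T : Matrix (Fin c) (Fin r) E := Matrix.of fun i j => MvPolynomial.X (Sum.inl (i, j))
  let Z : Matrix (Fin r) (Fin m) E := Matrix.of fun i j => MvPolynomial.X (Sum.inr (i, j))
  let Y : Matrix (Fin (r + c)) (Fin r) E := Matrix.of fun i j =>
    Fin.addCases (motive := fun _ => E) (fun a => (1 : Matrix (Fin r) (Fin r) E) a j)
      (fun a => T a j) i
  let φ : MvPolynomial (Fin (r + c) × Fin m) k →ₐ[k] E :=
    MvPolynomial.aeval fun ij => (Y * Z) ij.1 ij.2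
  have hφX : ∀ i j, φ (MvPolynomial.X (i, j)) = (Y * Z) i j := fun i j => by
    simp only [φ, MvPolynomial.aeval_X]
  have hφ : (gm k (r + c) m).map (φ : MvPolynomial (Fin (r + c) × Fin m) k →+* E) = Y * Z := by
    ext1 i j
    exact hφX i j
  refine ⟨φ, ?_, ?_⟩
  · intro x hx
    have h1 := minorIdeal_map (φ : MvPolynomial (Fin (r + c) × Fin m) k →+* E)
      (gm k (r + c) m) (r + 1)
    have h2 : φ x ∈ (minorIdeal (gm k (r + c) m) (r + 1)).map
      (φ : MvPolynomial (Fin (r + c) × Fin m) k →+* E) := Ideal.mem_map_of_mem _ hx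
    rw [← h1, hφ] at h2
    have h3 := minorIdeal_mul_le_right _ _ _ h2
    rw [minorIdeal_eq_bot_of_card_lt _ (by simp)] at h3
    exact h3
  · have hYZ : ∀ i j, (Y * Z) i j ∈ φ.range := fun i j => ⟨_, hφX i j⟩
    have hZ : ∀ i j, Z i j ∈ φ.range := by
      intro i j
      have h1 : (Y * Z) (Fin.castAdd c i) j = Z i j := by
        rw [Matrix.mul_apply]
        simp only [Y, Matrix.of_apply, Fin.addCases_left, Matrix.one_apply, ite_mul, one_mul,
          zero_mul, Finset.sum_ite_eq, Finset.mem_univ, if_true]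
      rw [← h1]
      exact hYZ _ _
    let Z' : Matrix (Fin r) (Fin r) E := Z.submatrix id (Fin.castLE hrm)
    have hTZ : ∀ i j, (T * Z') i j ∈ φ.range := by
      intro i j
      have h1 : (Y * Z) (Fin.natAdd r i) (Fin.castLE hrm j) = (T * Z') i j := by
        rw [Matrix.mul_apply, Matrix.mul_apply]
        simp only [Y, Matrix.of_apply, Fin.addCases_right, Z', Matrix.submatrix_apply, id]
      rw [← h1]
      exact hYZ _ _
    have hdet0 : Z'.det ≠ 0 := by
      intro h0
      have h2 := congrArg (MvPolynomial.eval (fun x : (Fin c × Fin r) ⊕ (Fin r × Fin m) =>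
        Sum.elim (fun _ => (0 : k)) (fun ij => if (ij.1 : ℕ) = (ij.2 : ℕ) then (1 : k) else 0) x)) h0
      rw [map_zero, RingHom.map_det] at h2
      have h3 : (MvPolynomial.eval (fun x : (Fin c × Fin r) ⊕ (Fin r × Fin m) =>
        Sum.elim (fun _ => (0 : k)) (fun ij => if (ij.1 : ℕ) = (ij.2 : ℕ) then (1 : k) else 0)
          x)).mapMatrix Z' = 1 := by
        ext i j
        simp [Matrix.one_apply, Fin.ext_iff, Z', Z]
      rw [h3, Matrix.det_one] at h2
      exact one_ne_zero h2
    have hdet : Z'.det ∈ φ.range := det_mem_sub _ _ fun i j => hZ _ _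
    have halg : Algebra.IsAlgebraic φ.range E := by
      refine isAlgebraic_of_adjoin φ.range _ (MvPolynomial.adjoin_range_X) ?_
      rintro _ ⟨x, rfl⟩
      rcases x with ⟨i, j⟩ | ⟨i, j⟩
      · refine ⟨Z'.det, hdet, hdet0, ?_⟩
        have h1 : (T * Z' * Z'.adjugate) i j = Z'.det * T i j := by
          rw [Matrix.mul_assoc, Matrix.mul_adjugate, Matrix.mul_smul, Matrix.mul_one]
          rfl
        have h2 : Z'.det * T i j ∈ φ.range := by
          rw [← h1]
          exact mul_mem_sub _ _ _ hTZ (adjugate_mem_sub _ _ fun i j => hZ _ _) i j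
        exact h2
      · refine ⟨1, Subalgebra.one_mem _, one_ne_zero, ?_⟩
        rw [one_mul]
        exact hZ i j
    have h1 := trdeg_add_eq (R := k) (S := φ.range) (A := E)
    rw [trdeg_eq_zero (R := φ.range) (A := E), add_zero, MvPolynomial.trdeg_of_isDomain] at h1
    rw [h1, Cardinal.mk_fintype]
    simp only [Fintype.card_sum, Fintype.card_prod, Fintype.card_fin]
    rw [Cardinal.lift_natCast]
    congr 1
    ring

lemma mul_le_aux {s r m n : ℕ} (hsr : s ≤ r) (hrm : r ≤ m) (hrn : r ≤ n) :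
    s * (m + n - s) ≤ r * (m + n - r) := by
  obtain ⟨a, rfl⟩ := Nat.exists_eq_add_of_le hsr
  obtain ⟨b, rfl⟩ := Nat.exists_eq_add_of_le hrm
  obtain ⟨c, rfl⟩ := Nat.exists_eq_add_of_le hrn
  have h4 : s + a + b + (s + a + c) - s = a + b + (s + a + c) := by omega
  have h5 : s + a + b + (s + a + c) - (s + a) = b + (s + a + c) := by omega
  rw [h4, h5]
  nlinarith

theorem main (n m r : ℕ) (hr : r ≤ min n m) {I : Ideal (MvPolynomial (Fin n × Fin m) k)}
    (hI : I = minorIdeal (gm k n m) (r + 1)) :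
    ringKrullDim (MvPolynomial (Fin n × Fin m) k ⧸ I) = ((r * (m + n - r) : ℕ) : WithBot ℕ∞) := by
  have hrn : r ≤ n := hr.trans (min_le_left _ _)
  have hrm : r ≤ m := hr.trans (min_le_right _ _)
  apply le_antisymm
  · refine ringKrullDim_le_of_forall _ fun P hP => ?_
    let D := (MvPolynomial (Fin n × Fin m) k ⧸ I) ⧸ P
    let φ : MvPolynomial (Fin n × Fin m) k →ₐ[k] D :=
      (Ideal.Quotient.mkₐ k P).comp (Ideal.Quotient.mkₐ k I)
    have hφ : Function.Surjective φ :=
      (Ideal.Quotient.mkₐ_surjective k P).comp (Ideal.Quotient.mkₐ_surjective k I)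
    let M : Matrix (Fin n) (Fin m) D := Matrix.of fun i j => φ (MvPolynomial.X (i, j))
    have hgen : Algebra.adjoin k (Set.range fun ij : Fin n × Fin m => M ij.1 ij.2) = ⊤ := by
      have h1 : (Set.range fun ij : Fin n × Fin m => M ij.1 ij.2) =
          φ '' Set.range (MvPolynomial.X : Fin n × Fin m → MvPolynomial (Fin n × Fin m) k) := by
        rw [← Set.range_comp]
        rfl
      rw [h1, ← AlgHom.map_adjoin, MvPolynomial.adjoin_range_X, Algebra.map_top,
        (AlgHom.range_eq_top _).2 hφ]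
    have hM0 : minorIdeal M (r + 1) = ⊥ := by
      have h1 := minorIdeal_map (φ : MvPolynomial (Fin n × Fin m) k →+* D) (gm k n m) (r + 1)
      have h2 : (gm k n m).map (φ : MvPolynomial (Fin n × Fin m) k →+* D) = M := rfl
      rw [h2, ← hI] at h1
      rw [h1, Ideal.map_eq_bot_iff_le_ker]
      intro x hx
      rw [RingHom.mem_ker]
      change Ideal.Quotient.mk P (Ideal.Quotient.mk I x) = 0
      rw [Ideal.Quotient.eq_zero_iff_mem.2 hx, map_zero]
    have hs1 := minorIdeal_matrixRank_ne_bot M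
    have hs2 := minorIdeal_matrixRank_succ M
    set s := matrixRank M with hs
    have hsr : s ≤ r := by
      by_contra hcon
      apply hs1
      rw [eq_bot_iff, ← hM0]
      exact minorIdeal_antitone M (by omega)
    obtain ⟨f, g, hfg⟩ : ∃ (f : Fin s → Fin n) (g : Fin s → Fin m), (M.submatrix f g).det ≠ 0 := by
      by_contra hcon
      push Not at hcon
      exact hs1 ((minorIdeal_eq_bot_iff M s).2 hcon)
    obtain ⟨hsm, hsn, htr⟩ := trdeg_le k M hgen s f g hfg hs2
    obtain ⟨d, hd1, hd2, _⟩ := Groth.Agent.CalgC.DimFT.exists_dim (k := k) D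
    rw [hd2, Nat.cast_le] at htr
    change ringKrullDim D ≤ _
    rw [hd1]
    have h3 : s * (m + n - s) ≤ r * (m + n - r) := mul_le_aux hsr hrm hrn
    exact_mod_cast htr.trans h3
  · obtain ⟨c, rfl⟩ := Nat.exists_eq_add_of_le hrn
    obtain ⟨φ, hφ, htr⟩ := trdeg_ge k r c m hrm
    have : Algebra.FiniteType k φ.range :=
      Algebra.FiniteType.of_surjective φ.rangeRestrict φ.rangeRestrict_surjective
    obtain ⟨d, hd1, hd2, _⟩ := Groth.Agent.CalgC.DimFT.exists_dim (k := k) φ.range
    rw [hd2, Nat.cast_inj] at htr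
    let ψ : (MvPolynomial (Fin (r + c) × Fin m) k ⧸ I) →ₐ[k] φ.range :=
      Ideal.Quotient.liftₐ I φ.rangeRestrict fun x hx => Subtype.ext (hφ x (by rwa [← hI]))
    have hψ : Function.Surjective ψ := by
      intro y
      obtain ⟨x, hx⟩ := φ.rangeRestrict_surjective y
      exact ⟨Ideal.Quotient.mk I x, hx⟩
    have h1 := ringKrullDim_le_of_surjective ψ.toRingHom hψ
    rw [hd1, htr] at h1
    rw [show m + (r + c) - r = m + c by omega]
    exact h1

end K581.GenDetDim
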