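import Groth.Agent.CAlgX.K581.HomDim
import Mathlib.RingTheory.Polynomial.Basic
import Mathlib.RingTheory.Noetherian.Basic
import Mathlib.RingTheory.Finiteness.Defs

/-!
# Graded submodules of `Sᵐ` with twisted grading and their minimal homogeneous generators
-/

set_option autoImplicit false
universe u

namespace K581.GradGen

open MvPolynomial

variable {k : Type u} [Field k] {σ : Type}

local notation "S" => MvPolynomial σ k

variable {m : ℕ} (d : Fin m → ℕ)

/-- the component of degree `e` for the grading of `Sᵐ` with generators in degrees `d`. -/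
noncomputable def comp (e : ℕ) : (Fin m → S) →+ (Fin m → S) where
  toFun v := fun i => if d i ≤ e then homogeneousComponent (e - d i) (v i) else 0
  map_zero' := by funext i; simp
  map_add' v w := by
    funext i
    simp only [Pi.add_apply]
    split_ifs with h
    · rw [map_add]
    · rw [add_zero]

theorem comp_apply (e : ℕ) (v : Fin m → S) (i : Fin m) :
    comp d e v i = if d i ≤ e then homogeneousComponent (e - d i) (v i) else 0 := rfl

/-- homogeneity for the twisted grading -/
def IsH (e : ℕ) (v : Fin m → S) : Prop :=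
  ∀ i, (d i ≤ e → (v i).IsHomogeneous (e - d i)) ∧ (e < d i → v i = 0)

theorem isH_comp (e : ℕ) (v : Fin m → S) : IsH d e (comp d e v) := by
  intro i
  rw [comp_apply]
  constructor
  · intro h
    rw [if_pos h]
    exact homogeneousComponent_isHomogeneous _ _
  · intro h
    rw [if_neg (by omega)]

variable {d}

theorem hc_mul {q : ℕ} {u : S} (hu : u.IsHomogeneous q) (a : S) (n : ℕ) :
    homogeneousComponent n (a * u) = if q ≤ n then homogeneousComponent (n - q) a * u else 0 := by
  classical
  split_ifs with h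
  · obtain ⟨r, rfl⟩ := Nat.exists_eq_add_of_le h
    rw [mul_comm, HomDim.homogeneousComponent_mul u a hu r, Nat.add_sub_cancel_left, mul_comm]
  · ext x
    rw [coeff_homogeneousComponent]
    split_ifs with hx
    · rw [coeff_zero, coeff_mul]
      refine Finset.sum_eq_zero fun y hy => ?_
      rw [Finset.mem_antidiagonal] at hy
      rw [hu.coeff_eq_zero, mul_zero]
      rw [← hy, map_add] at hx
      omega
    · rfl

theorem comp_smul {q : ℕ} {u : Fin m → S} (hu : IsH d q u) (a : S) (e : ℕ) :
    comp d e (a • u) = (if q ≤ e then homogeneousComponent (e - q) a else 0) • u := by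
  funext i
  rw [comp_apply, Pi.smul_apply, Pi.smul_apply, smul_eq_mul, smul_eq_mul]
  rcases Nat.lt_or_ge q (d i) with h1 | h1
  · rw [(hu i).2 h1, mul_zero, mul_zero, map_zero, ite_self]
  · by_cases h2 : d i ≤ e
    · rw [if_pos h2, hc_mul ((hu i).1 h1) a]
      by_cases h3 : q ≤ e
      · rw [if_pos (by omega), if_pos h3]
        congr 3
        omega
      · rw [if_neg (by omega), if_neg h3, zero_mul]
    · rw [if_neg h2, if_neg (by omega), zero_mul]

/-- `Σ aⱼ uⱼ` is compatible with the twisted gradings. -/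
theorem comp_sum {t : ℕ} {q : Fin t → ℕ} {u : Fin t → (Fin m → S)} (hu : ∀ j, IsH d (q j) (u j))
    (a : Fin t → S) (e : ℕ) :
    comp d e (∑ j, a j • u j) = ∑ j, (comp q e a) j • u j := by
  rw [map_sum]
  refine Finset.sum_congr rfl fun j _ => ?_
  rw [comp_smul (hu j), comp_apply]

theorem exists_sum_comp (d : Fin m → ℕ) (v : Fin m → S) :
    ∃ N, v = ∑ e ∈ Finset.range N, comp d e v := by
  refine ⟨∑ i, (d i + (v i).totalDegree + 1), ?_⟩
  funext i
  ext x
  rw [Finset.sum_apply, coeff_sum]
  have hle : d i + (v i).totalDegree + 1 ≤ ∑ i, (d i + (v i).totalDegree + 1) :=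
    Finset.single_le_sum (f := fun i => d i + (v i).totalDegree + 1) (fun _ _ => Nat.zero_le _)
      (Finset.mem_univ i)
  have h1 : ∀ e, coeff x (comp d e v i) = if e = x.degree + d i then coeff x (v i) else 0 := by
    intro e
    rw [comp_apply]
    by_cases h : d i ≤ e
    · rw [if_pos h, coeff_homogeneousComponent]
      by_cases h2 : x.degree = e - d i
      · rw [if_pos h2, if_pos (by omega)]
      · rw [if_neg h2, if_neg (by omega)]
    · rw [if_neg h, if_neg (by omega), coeff_zero]
  rw [Finset.sum_congr rfl fun e _ => h1 e, Finset.sum_ite_eq']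
  split_ifs with h
  · rfl
  · rw [Finset.mem_range] at h
    by_contra hne
    have h3 := le_totalDegree (mem_support_iff.mpr hne)
    have h4 : (x.sum fun _ e => e) = x.degree := rfl
    omega

/-- A graded submodule is spanned by its homogeneous elements. -/
theorem span_homog {K : Submodule S (Fin m → S)} (hK : ∀ v ∈ K, ∀ e, comp d e v ∈ K) :
    Submodule.span S {v | v ∈ K ∧ ∃ e, IsH d e v} = K := by
  apply le_antisymm
  · rw [Submodule.span_le]
    exact fun v hv => hv.1
  · intro v hv
    obtain ⟨N, hN⟩ := exists_sum_comp d v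
    rw [hN]
    exact Submodule.sum_mem _ fun e _ => Submodule.subset_span ⟨hK v hv e, e, isH_comp d e v⟩

variable [Finite σ]

/-- A graded submodule has a finite homogeneous generating family. -/
theorem exists_gens {K : Submodule S (Fin m → S)} (hK : ∀ v ∈ K, ∀ e, comp d e v ∈ K) :
    ∃ (t : ℕ) (q : Fin t → ℕ) (u : Fin t → (Fin m → S)), (∀ j, IsH d (q j) (u j)) ∧
      Submodule.span S (Set.range u) = K := by
  have h1 := span_homog hK
  have h2 : (Submodule.span S {v | v ∈ K ∧ ∃ e, IsH d e v}).FG := IsNoetherian.noetherian _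
  obtain ⟨s, hs, hs2⟩ := (Submodule.fg_span_iff_fg_span_finset_subset _).mp h2
  have h3 : ∀ j : Fin s.card, ∃ q, IsH d q ((s.equivFin.symm j : s) : Fin m → S) := fun j =>
    (hs (s.equivFin.symm j).2).2
  choose q hq using h3
  refine ⟨s.card, q, fun j => (s.equivFin.symm j : s), hq, ?_⟩
  have h4 : Set.range (fun j => ((s.equivFin.symm j : s) : Fin m → S)) = (s : Set (Fin m → S)) := by
    ext x
    constructor
    · rintro ⟨j, rfl⟩
      exact (s.equivFin.symm j).2
    · intro hx
      exact ⟨s.equivFin ⟨x, hx⟩, by simp⟩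
  rw [h4, ← hs2, h1]

/-- A graded submodule has a minimal homogeneous generating family. -/
theorem exists_min_gens {K : Submodule S (Fin m → S)} (hK : ∀ v ∈ K, ∀ e, comp d e v ∈ K) :
    ∃ (t : ℕ) (q : Fin t → ℕ) (u : Fin t → (Fin m → S)), (∀ j, IsH d (q j) (u j)) ∧
      Submodule.span S (Set.range u) = K ∧
      ∀ a : Fin t → S, ∑ j, a j • u j = 0 → ∀ j, constantCoeff (a j) = 0 := by
  classical
  have hex := exists_gens hK
  obtain ⟨q, u, hu, hspan⟩ := Nat.find_spec hex
  have hmin : ∀ n < Nat.find hex, ¬ ∃ (q : Fin n → ℕ) (u : Fin n → (Fin m → S)),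
      (∀ j, IsH d (q j) (u j)) ∧ Submodule.span S (Set.range u) = K := fun n hn =>
    Nat.find_min hex hn
  generalize Nat.find hex = t at q u hu hspan hmin
  refine ⟨t, q, u, hu, hspan, fun a ha j0 => ?_⟩
  by_contra hc
  obtain ⟨t, rfl⟩ : ∃ t', t = t' + 1 := ⟨t - 1, by have := j0.2; omega⟩
  apply hmin t (Nat.lt_succ_self t)
  refine ⟨fun j => q (j0.succAbove j), fun j => u (j0.succAbove j), fun j => hu _, ?_⟩
  rw [← hspan]
  apply le_antisymm
  · apply Submodule.span_mono
    rintro _ ⟨j, rfl⟩
    exact ⟨_, rfl⟩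
  · rw [Submodule.span_le]
    rintro _ ⟨j, rfl⟩
    rcases Fin.eq_self_or_eq_succAbove j0 j with rfl | ⟨j, rfl⟩
    · have h1 := comp_sum hu a (q j)
      rw [ha, map_zero, Fin.sum_univ_succAbove _ j, comp_apply, if_pos le_rfl, Nat.sub_self,
        homogeneousComponent_zero] at h1
      have h2 : u j = (C (constantCoeff (a j))⁻¹ : S) •
          (-∑ i : Fin t, comp q (q j) a (j.succAbove i) • u (j.succAbove i)) := by
        have h3 : -∑ i : Fin t, comp q (q j) a (j.succAbove i) • u (j.succAbove i) =
            (C (constantCoeff (a j)) : S) • u j := (eq_neg_of_add_eq_zero_left h1.symm).symm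
        rw [h3, smul_smul, ← C_mul, inv_mul_cancel₀ hc, C_1, one_smul]
      rw [SetLike.mem_coe, h2]
      refine Submodule.smul_mem _ _ (Submodule.neg_mem _ (Submodule.sum_mem _ fun i _ => ?_))
      exact Submodule.smul_mem _ _ (Submodule.subset_span ⟨i, rfl⟩)
    · exact Submodule.subset_span ⟨j, rfl⟩

end K581.GradGen
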