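import Groth.Agent.CAlgX.K581.McCoy
import Groth.Agent.LoccohA.DepthSpread
import Mathlib.LinearAlgebra.Matrix.Adjugate

/-!
# Linear algebra of the Hilbert–Burch theorem
-/

set_option autoImplicit false
universe u

namespace K581.HilbertBurch

open CAlgX Matrix Groth.Agent.CalgB.Minors K581.McCoy RingTheory.Sequence
open scoped Pointwise

variable {R : Type u} [CommRing R] {t : ℕ}

/-- elementwise form of depth at least two -/
def Two (J : Ideal R) : Prop :=
  ∃ x ∈ J, ∃ y ∈ J, (∀ a, x * a = 0 → a = 0) ∧ (∀ a b, y * a = x * b → ∃ c, a = x * c)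

theorem two_of_le_idealDepth (J : Ideal R) (h : 2 ≤ LocCoh.idealDepth J R) : Two J := by
  by_cases hJ : J • (⊤ : Submodule R R) = ⊤
  · have h1 : (1 : R) ∈ J := by
      have h2 : J = ⊤ := by rwa [smul_eq_mul, Ideal.mul_top] at hJ
      rw [h2]; trivial
    exact ⟨1, h1, 1, h1, fun a ha => by rwa [one_mul] at ha,
      fun a b hab => ⟨b, by rwa [one_mul] at hab⟩⟩
  · obtain ⟨rs, hrs, hJ', hlen⟩ :=
      Groth.Agent.LoccohA.DepthSpread.exists_isWeaklyRegular_length_eq_of_le_idealDepth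
        (e := 2) hJ (by exact_mod_cast h)
    obtain ⟨x, y, rfl⟩ := List.length_eq_two.1 hlen
    rw [isWeaklyRegular_cons_iff, isWeaklyRegular_cons_iff] at hrs
    refine ⟨x, hJ' x (by simp), y, hJ' y (by simp), fun a ha => ?_, fun a b hab => ?_⟩
    · exact hrs.1 (by simpa using ha)
    · have h1 := hrs.2.1
      have h2 : (Submodule.Quotient.mk a : QuotSMulTop x R) = 0 := by
        apply h1
        change y • (Submodule.Quotient.mk a : QuotSMulTop x R) = y • (0 : QuotSMulTop x R)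
        rw [smul_zero, ← Submodule.Quotient.mk_smul, Submodule.Quotient.mk_eq_zero, smul_eq_mul, hab]
        exact Submodule.smul_mem_pointwise_smul b x ⊤ trivial
      rw [Submodule.Quotient.mk_eq_zero] at h2
      obtain ⟨c, _, hc⟩ := (Submodule.mem_smul_pointwise_iff_exists _ _ _).1 h2
      exact ⟨c, hc.symm⟩

theorem le_idealDepth_of_two (J : Ideal R) (h : Two J) : 2 ≤ LocCoh.idealDepth J R := by
  obtain ⟨x, hx, y, hy, h1, h2⟩ := h
  have h3 : IsWeaklyRegular R [x, y] := by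
    rw [isWeaklyRegular_cons_iff, isWeaklyRegular_cons_iff]
    refine ⟨?_, ?_, IsWeaklyRegular.nil R _⟩
    · rw [isSMulRegular_iff_right_eq_zero_of_smul]
      exact h1
    · rw [isSMulRegular_iff_right_eq_zero_of_smul]
      intro a
      obtain ⟨a, rfl⟩ := Submodule.Quotient.mk_surjective _ a
      intro ha
      rw [← Submodule.Quotient.mk_smul, Submodule.Quotient.mk_eq_zero] at ha
      obtain ⟨b, _, hb⟩ := (Submodule.mem_smul_pointwise_iff_exists _ _ _).1 ha
      obtain ⟨c, hc⟩ := h2 a b hb.symm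
      rw [Submodule.Quotient.mk_eq_zero, hc]
      exact Submodule.smul_mem_pointwise_smul c x ⊤ trivial
  have h4 := Groth.Agent.LoccohA.DepthSpread.length_le_idealDepth h3 (I := J) (by simp [hx, hy])
  exact_mod_cast h4

/-- signed maximal minors -/
def dl (Ψ : Matrix (Fin (t + 1)) (Fin t) R) (i : Fin (t + 1)) : R :=
  (-1 : R) ^ (i : ℕ) * (Ψ.submatrix i.succAbove id).det

/-- the matrix with an extra first column -/
def aug (Ψ : Matrix (Fin (t + 1)) (Fin t) R) (c : Fin (t + 1) → R) :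
    Matrix (Fin (t + 1)) (Fin (t + 1)) R :=
  Matrix.of fun i k => Fin.cases (motive := fun _ => R) (c i) (fun l => Ψ i l) k

lemma aug_submatrix (Ψ : Matrix (Fin (t + 1)) (Fin t) R) (c : Fin (t + 1) → R)
    (i : Fin (t + 1)) : (aug Ψ c).submatrix i.succAbove Fin.succ = Ψ.submatrix i.succAbove id := by
  ext a b
  simp [aug]

lemma det_aug (Ψ : Matrix (Fin (t + 1)) (Fin t) R) (c : Fin (t + 1) → R) :
    (aug Ψ c).det = ∑ i, c i * dl Ψ i := by
  rw [Matrix.det_succ_column_zero]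
  refine Finset.sum_congr rfl fun i _ => ?_
  rw [aug_submatrix]
  simp only [aug, dl, Matrix.of_apply, Fin.cases_zero]
  ring

lemma adjugate_aug (Ψ : Matrix (Fin (t + 1)) (Fin t) R) (c : Fin (t + 1) → R)
    (i : Fin (t + 1)) : (aug Ψ c).adjugate 0 i = dl Ψ i := by
  rw [Matrix.adjugate_fin_succ_eq_det_submatrix]
  have : (aug Ψ c).submatrix i.succAbove (0 : Fin (t + 1)).succAbove =
      Ψ.submatrix i.succAbove id := by
    rw [← aug_submatrix Ψ c i]
    rfl
  rw [this, dl]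
  simp

/-- the minors kill the columns -/
lemma sum_dl_mul (Ψ : Matrix (Fin (t + 1)) (Fin t) R) (j : Fin t) :
    ∑ i, Ψ i j * dl Ψ i = 0 := by
  rw [← det_aug Ψ (fun i => Ψ i j)]
  refine Matrix.det_zero_of_column_eq (i := 0) (j := j.succ) (Fin.succ_ne_zero j).symm ?_
  intro i
  simp [aug]

lemma sum_mulVec_mul_dl (Ψ : Matrix (Fin (t + 1)) (Fin t) R) (w : Fin t → R) :
    ∑ i, Ψ.mulVec w i * dl Ψ i = 0 := by
  have h1 : ∀ i, Ψ.mulVec w i * dl Ψ i = ∑ j, w j * (Ψ i j * dl Ψ i) := by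
    intro i
    rw [Matrix.mulVec, dotProduct, Finset.sum_mul]
    exact Finset.sum_congr rfl fun j _ => by ring
  rw [Finset.sum_congr rfl fun i _ => h1 i, Finset.sum_comm]
  refine Finset.sum_eq_zero fun j _ => ?_
  rw [← Finset.mul_sum, sum_dl_mul, mul_zero]

/-- Cramer: multiples of a vector killed by the minors lie in the image -/
lemma exists_mulVec_eq_smul (Ψ : Matrix (Fin (t + 1)) (Fin t) R) (w : Fin (t + 1) → R)
    (hw : ∑ i, w i * dl Ψ i = 0) (c : Fin (t + 1) → R) :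
    ∃ u, Ψ.mulVec u = (∑ i, c i * dl Ψ i) • w := by
  set y := (aug Ψ c).adjugate.mulVec w with hy
  have h1 : (aug Ψ c).mulVec y = (∑ i, c i * dl Ψ i) • w := by
    rw [hy, Matrix.mulVec_mulVec, Matrix.mul_adjugate, det_aug, Matrix.smul_mulVec,
      Matrix.one_mulVec]
  have h2 : y 0 = 0 := by
    rw [hy, Matrix.mulVec, dotProduct, ← hw]
    exact Finset.sum_congr rfl fun i _ => by rw [adjugate_aug, mul_comm]
  refine ⟨fun j => y j.succ, ?_⟩
  rw [← h1]
  ext i
  rw [Matrix.mulVec, dotProduct, Matrix.mulVec, dotProduct, Fin.sum_univ_succ, h2, mul_zero,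
    zero_add]
  rfl

/-- Cramer for linear forms killing the columns -/
lemma smul_eq_smul_dl (Ψ : Matrix (Fin (t + 1)) (Fin t) R) (v : Fin (t + 1) → R)
    (hv : ∀ j, ∑ i, v i * Ψ i j = 0) (c : Fin (t + 1) → R) (i : Fin (t + 1)) :
    (∑ i, c i * dl Ψ i) * v i = (∑ i, v i * c i) * dl Ψ i := by
  have h1 : v ᵥ* aug Ψ c = Pi.single 0 (∑ i, v i * c i) := by
    ext k
    rw [Matrix.vecMul, dotProduct]
    refine Fin.cases ?_ (fun l => ?_) k
    · rw [Pi.single_eq_same]
      rfl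
    · rw [Pi.single_eq_of_ne (Fin.succ_ne_zero l)]
      exact hv l
  have h2 : (v ᵥ* aug Ψ c) ᵥ* (aug Ψ c).adjugate = (∑ i, c i * dl Ψ i) • v := by
    rw [Matrix.vecMul_vecMul, Matrix.mul_adjugate, det_aug, Matrix.vecMul_smul, Matrix.vecMul_one]
  rw [h1] at h2
  have h3 := congrFun h2 i
  rw [Matrix.single_vecMul] at h3
  simp only [Pi.smul_apply, smul_eq_mul, adjugate_aug, Matrix.row] at h3
  rw [← h3]

/-- the ideal of maximal minors is generated by the signed maximal minors -/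
lemma minorIdeal_eq_span_dl (Ψ : Matrix (Fin (t + 1)) (Fin t) R) :
    minorIdeal Ψ t = Ideal.span (Set.range (dl Ψ)) := by
  classical
  apply le_antisymm
  · rw [minorIdeal_le_iff]
    intro f g
    by_cases hf : Function.Injective f
    · obtain ⟨i, hi⟩ : ∃ i, i ∉ Set.range f := by
        by_contra hcon
        push Not at hcon
        have := Fintype.card_le_of_surjective f hcon
        simp at this
      have h1 : ∀ k, ∃ l, i.succAbove l = f k := fun k =>
        Fin.exists_succAbove_eq (fun h => hi ⟨k, h⟩)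
      choose σ hσ using h1
      have h2 : Ψ.submatrix f g =
          (1 : Matrix (Fin t) (Fin t) R).submatrix σ id * (Ψ.submatrix i.succAbove id) *
            (1 : Matrix (Fin t) (Fin t) R).submatrix id g := by
        ext a b
        simp [Matrix.mul_apply, Matrix.one_apply, hσ]
      rw [h2, Matrix.det_mul, Matrix.det_mul]
      refine Ideal.mul_mem_right _ _ (Ideal.mul_mem_left _ _ ?_)
      have h3 : (Ψ.submatrix i.succAbove id).det = (-1 : R) ^ (i : ℕ) * dl Ψ i := by
        rw [dl, ← mul_assoc, ← pow_add, ← two_mul, pow_mul]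
        simp
      rw [h3]
      exact Ideal.mul_mem_left _ _ (Ideal.subset_span ⟨i, rfl⟩)
    · rw [Function.not_injective_iff] at hf
      obtain ⟨a, b, hab, hne⟩ := hf
      rw [Matrix.det_zero_of_row_eq hne (by ext k; simp [hab])]
      exact Ideal.zero_mem _
  · rw [Ideal.span_le]
    rintro _ ⟨i, rfl⟩
    exact Ideal.mul_mem_left _ _ (det_mem_minorIdeal _ _ _)

lemma mem_minorIdeal_iff (Ψ : Matrix (Fin (t + 1)) (Fin t) R) (x : R) :
    x ∈ minorIdeal Ψ t ↔ ∃ c : Fin (t + 1) → R, x = ∑ i, c i * dl Ψ i := by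
  rw [minorIdeal_eq_span_dl, Ideal.span, Submodule.mem_span_range_iff_exists_fun]
  simp only [smul_eq_mul, eq_comm]

/-- exactness of the Hilbert–Burch complex -/
theorem ker_le_range (Ψ : Matrix (Fin (t + 1)) (Fin t) R) (h : Two (minorIdeal Ψ t))
    (w : Fin (t + 1) → R) (hw : ∑ i, w i * dl Ψ i = 0) : ∃ u, Ψ.mulVec u = w := by
  obtain ⟨x, hx, y, hy, h1, h2⟩ := h
  have hinj : ∀ u, Ψ.mulVec u = 0 → u = 0 := by
    intro u hu
    have h3 := smul_eq_zero_of_mem Ψ u hu x hx
    ext j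
    exact h1 _ (congrFun h3 j)
  obtain ⟨c, hc⟩ := (mem_minorIdeal_iff Ψ x).1 hx
  obtain ⟨c', hc'⟩ := (mem_minorIdeal_iff Ψ y).1 hy
  obtain ⟨u, hu⟩ := exists_mulVec_eq_smul Ψ w hw c
  obtain ⟨u', hu'⟩ := exists_mulVec_eq_smul Ψ w hw c'
  rw [← hc] at hu
  rw [← hc'] at hu'
  have h3 : Ψ.mulVec (y • u - x • u') = 0 := by
    rw [Matrix.mulVec_sub, Matrix.mulVec_smul, Matrix.mulVec_smul, hu, hu', smul_smul, smul_smul,
      mul_comm, sub_self]
  have h4 := hinj _ h3
  have h5 : ∀ j, ∃ d, u j = x * d := fun j => h2 (u j) (u' j) (by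
    have := congrFun h4 j
    simpa [sub_eq_zero] using this)
  choose d hd using h5
  refine ⟨d, ?_⟩
  have h6 : u = x • d := funext hd
  rw [h6, Matrix.mulVec_smul] at hu
  ext i
  have h7 := congrFun hu i
  simp only [Pi.smul_apply, smul_eq_mul] at h7
  have h8 : x * (Ψ.mulVec d i - w i) = 0 := by rw [mul_sub, h7, sub_self]
  exact sub_eq_zero.1 (h1 _ h8)

/-- a linear form killing the columns is a multiple of the minors -/
theorem exists_eq_mul_dl (Ψ : Matrix (Fin (t + 1)) (Fin t) R) (h : Two (minorIdeal Ψ t))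
    (v : Fin (t + 1) → R) (hv : ∀ j, ∑ i, v i * Ψ i j = 0) : ∃ a : R, ∀ i, v i = a * dl Ψ i := by
  obtain ⟨x, hx, y, hy, h1, h2⟩ := h
  obtain ⟨c, hc⟩ := (mem_minorIdeal_iff Ψ x).1 hx
  obtain ⟨c', hc'⟩ := (mem_minorIdeal_iff Ψ y).1 hy
  set k := ∑ i, v i * c i with hk
  set k' := ∑ i, v i * c' i with hk'
  have h3 : ∀ i, x * v i = k * dl Ψ i := fun i => by
    rw [hc]; exact smul_eq_smul_dl Ψ v hv c i
  have h4 : ∀ i, y * v i = k' * dl Ψ i := fun i => by
    rw [hc']; exact smul_eq_smul_dl Ψ v hv c' i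
  have h5 : ∀ i, (y * k - x * k') * dl Ψ i = 0 := by
    intro i
    have h6 : (y * k) * dl Ψ i = y * (x * v i) := by rw [h3]; ring
    have h7 : (x * k') * dl Ψ i = x * (y * v i) := by rw [h4]; ring
    rw [sub_mul, h6, h7]; ring
  have h6 : x * (y * k - x * k') = 0 := by
    rw [mul_comm]
    conv_lhs => rw [hc, Finset.mul_sum]
    refine Finset.sum_eq_zero fun i _ => ?_
    rw [← hc, mul_left_comm, h5, mul_zero]
  obtain ⟨a, ha⟩ := h2 k k' (sub_eq_zero.1 (h1 _ h6))
  refine ⟨a, fun i => ?_⟩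
  have h7 : x * (v i - a * dl Ψ i) = 0 := by rw [mul_sub, h3, ha]; ring
  exact sub_eq_zero.1 (h1 _ h7)

end K581.HilbertBurch
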