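import Mathlib.Algebra.MvPolynomial.Division
import Mathlib.RingTheory.MvPolynomial.Ideal
import Mathlib.RingTheory.Filtration
import Mathlib.RingTheory.Polynomial.Basic
import Mathlib.Tactic.LinearCombination

/-!
# The Koszul complex of `k[x₀, x₁, x₂]` and syzygies of ideals without socle
-/

set_option autoImplicit false
universe u

namespace K581.Kos3

open MvPolynomial

variable {k : Type u} [Field k]

local notation "S" => MvPolynomial (Fin 3) k

theorem not_dvd {i j : Fin 3} (h : i ≠ j) : ¬ (X i : S) ∣ X j := by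
  rw [X_dvd_X]
  exact h

theorem dvd_of_dvd_mul {i j : Fin 3} (h : i ≠ j) {c : S} (hc : X i ∣ X j * c) : X i ∣ c :=
  ((X_prime (R := k) (i := i)).dvd_or_dvd hc).resolve_left (not_dvd h)

theorem kos2 (w : Fin 3 → S) (h1 : X 2 * w 0 - X 0 * w 2 = 0)
    (h2 : X 0 * w 1 - X 1 * w 0 = 0) : ∃ c : S, ∀ i, w i = X i * c := by
  obtain ⟨c, hc⟩ : X 0 ∣ w 0 := by
    apply dvd_of_dvd_mul (j := 1) (by decide)
    exact ⟨w 1, by linear_combination -h2⟩
  have hX : (X 0 : S) ≠ 0 := X_ne_zero 0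
  refine ⟨c, fun i => ?_⟩
  fin_cases i
  · exact hc
  · apply mul_left_cancel₀ hX
    change X 0 * w 1 = X 0 * (X 1 * c)
    rw [hc] at h2
    linear_combination h2
  · apply mul_left_cancel₀ hX
    change X 0 * w 2 = X 0 * (X 2 * c)
    rw [hc] at h1
    linear_combination -h1

theorem mem_span_of_mul {a : S} (h : X 2 * a ∈ Ideal.span ({X 0, X 1} : Set S)) :
    a ∈ Ideal.span ({X 0, X 1} : Set S) := by
  have hs : ({X 0, X 1} : Set S) = X '' ({0, 1} : Set (Fin 3)) := by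
    rw [Set.image_insert_eq, Set.image_singleton]
  rw [hs, mem_ideal_span_X_image] at h ⊢
  intro m hm
  have h2 : Finsupp.single 2 1 + m ∈ (X 2 * a).support := by
    rw [mem_support_iff, coeff_X_mul]
    exact mem_support_iff.mp hm
  obtain ⟨i, hi, hi2⟩ := h _ h2
  refine ⟨i, hi, ?_⟩
  have hi3 : i ≠ 2 := by
    rintro rfl
    simp at hi
  rw [Finsupp.add_apply, Finsupp.single_eq_of_ne hi3, zero_add] at hi2
  exact hi2

theorem kos1 (a : Fin 3 → S) (h : X 0 * a 0 + X 1 * a 1 + X 2 * a 2 = 0) :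
    ∃ w : Fin 3 → S, a 0 = X 1 * w 2 - X 2 * w 1 ∧ a 1 = X 2 * w 0 - X 0 * w 2 ∧
      a 2 = X 0 * w 1 - X 1 * w 0 := by
  have h2 : a 2 ∈ Ideal.span ({X 0, X 1} : Set S) := by
    apply mem_span_of_mul
    rw [Ideal.mem_span_pair]
    exact ⟨-a 0, -a 1, by linear_combination -h⟩
  rw [Ideal.mem_span_pair] at h2
  obtain ⟨p, q, hpq⟩ := h2
  have h3 : X 0 ∣ a 1 + X 2 * q := by
    apply dvd_of_dvd_mul (j := 1) (by decide)
    exact ⟨-(a 0 + X 2 * p), by rw [← hpq] at h; linear_combination h⟩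
  obtain ⟨s, hs⟩ := h3
  have hX : (X 0 : S) ≠ 0 := X_ne_zero 0
  refine ⟨![-q, p, -s], ?_, ?_, ?_⟩
  · apply mul_left_cancel₀ hX
    change X 0 * a 0 = X 0 * (X 1 * (-s) - X 2 * p)
    rw [← hpq] at h
    linear_combination h - X 1 * hs
  · change a 1 = X 2 * (-q) - X 0 * (-s)
    linear_combination hs
  · change a 2 = X 0 * p - X 1 * (-q)
    linear_combination -hpq

variable {n m : ℕ}

theorem kos2' (w : Fin 3 → (Fin m → S)) (h1 : (X 2 : S) • w 0 - (X 0 : S) • w 2 = 0)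
    (h2 : (X 0 : S) • w 1 - (X 1 : S) • w 0 = 0) :
    ∃ c : Fin m → S, ∀ i, w i = (X i : S) • c := by
  have h3 : ∀ j, ∃ c : S, ∀ i, w i j = X i * c := fun j => by
    apply kos2 (fun i => w i j)
    · exact congrFun h1 j
    · exact congrFun h2 j
  choose c hc using h3
  exact ⟨c, fun i => funext fun j => hc j i⟩

theorem kos1' (a : Fin 3 → (Fin m → S))
    (h : (X 0 : S) • a 0 + (X 1 : S) • a 1 + (X 2 : S) • a 2 = 0) :
    ∃ w : Fin 3 → (Fin m → S), a 0 = (X 1 : S) • w 2 - (X 2 : S) • w 1 ∧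
      a 1 = (X 2 : S) • w 0 - (X 0 : S) • w 2 ∧
      a 2 = (X 0 : S) • w 1 - (X 1 : S) • w 0 := by
  have h3 : ∀ j, ∃ w : Fin 3 → S, a 0 j = X 1 * w 2 - X 2 * w 1 ∧ a 1 j = X 2 * w 0 - X 0 * w 2 ∧
      a 2 j = X 0 * w 1 - X 1 * w 0 := fun j => kos1 (fun i => a i j) (congrFun h j)
  choose w hw using h3
  exact ⟨fun i j => w j i, funext fun j => (hw j).1, funext fun j => (hw j).2.1,
    funext fun j => (hw j).2.2⟩

/-- The first syzygy module `K = ker (Sᵐ → I)` of an ideal `I` without socle has vanishing first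
Koszul homology. -/
theorem syz_h1 (I : Ideal S) (hsoc : ∀ c : S, (∀ i, X i * c ∈ I) → c ∈ I)
    (π : (Fin m → S) →ₗ[S] S) (hπ : LinearMap.range π = I)
    (a : Fin 3 → (Fin m → S)) (ha : ∀ i, a i ∈ LinearMap.ker π)
    (h : (X 0 : S) • a 0 + (X 1 : S) • a 1 + (X 2 : S) • a 2 = 0) :
    ∃ w : Fin 3 → (Fin m → S), (∀ i, w i ∈ LinearMap.ker π) ∧
      a 0 = (X 1 : S) • w 2 - (X 2 : S) • w 1 ∧
      a 1 = (X 2 : S) • w 0 - (X 0 : S) • w 2 ∧
      a 2 = (X 0 : S) • w 1 - (X 1 : S) • w 0 := by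
  obtain ⟨w, hw0, hw1, hw2⟩ := kos1' a h
  have e1 : X 2 * π (w 0) - X 0 * π (w 2) = 0 := by
    have := ha 1
    rw [LinearMap.mem_ker, hw1, map_sub, map_smul, map_smul] at this
    exact this
  have e2 : X 0 * π (w 1) - X 1 * π (w 0) = 0 := by
    have := ha 2
    rw [LinearMap.mem_ker, hw2, map_sub, map_smul, map_smul] at this
    exact this
  obtain ⟨c, hc⟩ := kos2 (fun i => π (w i)) e1 e2
  have hcI : c ∈ I := by
    apply hsoc
    intro i
    rw [← hc i, ← hπ]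
    exact ⟨_, rfl⟩
  rw [← hπ] at hcI
  obtain ⟨v, hv⟩ := hcI
  refine ⟨fun i => w i - (X i : S) • v, fun i => ?_, ?_, ?_, ?_⟩
  · rw [LinearMap.mem_ker, map_sub, map_smul, hv, smul_eq_mul, ← hc i, sub_self]
  · rw [hw0]
    simp only [smul_sub, smul_smul]
    rw [mul_comm (X 2 : S) (X 1)]
    abel
  · rw [hw1]
    simp only [smul_sub, smul_smul]
    rw [mul_comm (X 0 : S) (X 2)]
    abel
  · rw [hw2]
    simp only [smul_sub, smul_smul]
    rw [mul_comm (X 1 : S) (X 0)]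
    abel

/-- A submodule of `Sᵗ` contained in `𝔪` times itself vanishes. -/
theorem eq_bot_of_le_smul {t : ℕ} (L : Submodule S (Fin t → S))
    (h : L ≤ idealOfVars (Fin 3) k • L) : L = ⊥ := by
  have h1 : ∀ n : ℕ, L ≤ idealOfVars (Fin 3) k ^ n • (⊤ : Submodule S (Fin t → S)) := by
    intro n
    induction n with
    | zero =>
      rw [pow_zero, Ideal.one_eq_top, Submodule.top_smul]
      exact le_top
    | succ n ih =>
      refine h.trans ?_
      rw [pow_succ', ← smul_eq_mul, Submodule.smul_assoc]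
      exact Submodule.smul_mono le_rfl ih
  have hne : idealOfVars (Fin 3) k ≠ ⊤ := by
    rw [Ideal.ne_top_iff_one]
    intro h1
    rw [← pow_one (idealOfVars (Fin 3) k), mem_pow_idealOfVars_iff'] at h1
    have := h1 0 (by simp)
    simp at this
  rw [eq_bot_iff, ← Ideal.iInf_pow_smul_eq_bot_of_isTorsionFree (M := Fin t → S) _ hne]
  exact le_iInf h1

/-- Minimal generators of a module with vanishing first Koszul homology are a basis. -/
theorem ker_eq_bot {t : ℕ} (U : (Fin t → S) →ₗ[S] (Fin m → S))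
    (hK : ∀ a : Fin 3 → (Fin m → S), (∀ i, a i ∈ LinearMap.range U) →
      (X 0 : S) • a 0 + (X 1 : S) • a 1 + (X 2 : S) • a 2 = 0 →
      ∃ w : Fin 3 → (Fin m → S), (∀ i, w i ∈ LinearMap.range U) ∧
      a 0 = (X 1 : S) • w 2 - (X 2 : S) • w 1 ∧
      a 1 = (X 2 : S) • w 0 - (X 0 : S) • w 2 ∧
      a 2 = (X 0 : S) • w 1 - (X 1 : S) • w 0)
    (hmin : ∀ l ∈ LinearMap.ker U, ∀ j, constantCoeff (l j) = 0) : LinearMap.ker U = ⊥ := by
  apply eq_bot_of_le_smul
  intro l hl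
  have h1 : ∀ j, ∃ a : Fin 3 → S, l j = X 0 * a 0 + X 1 * a 1 + X 2 * a 2 := by
    intro j
    have h2 : l j ∈ idealOfVars (Fin 3) k := by
      rw [← pow_one (idealOfVars (Fin 3) k), mem_pow_idealOfVars_iff']
      intro x hx
      have hx0 : x = 0 := by
        rw [Nat.lt_one_iff] at hx
        exact (Finsupp.degree_eq_zero_iff x).mp hx
      rw [hx0]
      exact hmin l hl j
    rw [idealOfVars, Ideal.mem_span_range_iff_exists_fun] at h2
    obtain ⟨c, hc⟩ := h2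
    refine ⟨c, ?_⟩
    rw [← hc, Fin.sum_univ_three]
    ring
  choose a' ha' using h1
  let a : Fin 3 → (Fin t → S) := fun i j => a' j i
  have ha : l = (X 0 : S) • a 0 + (X 1 : S) • a 1 + (X 2 : S) • a 2 := funext fun j => ha' j
  obtain ⟨w, hw, hw0, hw1, hw2⟩ := hK (fun i => U (a i)) (fun i => ⟨_, rfl⟩) (by
    rw [← map_smul, ← map_smul, ← map_smul, ← map_add, ← map_add, ← ha]
    exact hl)
  choose v hv using hw
  have e0 : a 0 - ((X 1 : S) • v 2 - (X 2 : S) • v 1) ∈ LinearMap.ker U := by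
    rw [LinearMap.mem_ker, map_sub, map_sub, map_smul, map_smul, hv, hv, ← hw0, sub_self]
  have e1 : a 1 - ((X 2 : S) • v 0 - (X 0 : S) • v 2) ∈ LinearMap.ker U := by
    rw [LinearMap.mem_ker, map_sub, map_sub, map_smul, map_smul, hv, hv, ← hw1, sub_self]
  have e2 : a 2 - ((X 0 : S) • v 1 - (X 1 : S) • v 0) ∈ LinearMap.ker U := by
    rw [LinearMap.mem_ker, map_sub, map_sub, map_smul, map_smul, hv, hv, ← hw2, sub_self]
  have hl2 : l = (X 0 : S) • (a 0 - ((X 1 : S) • v 2 - (X 2 : S) • v 1)) +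
      (X 1 : S) • (a 1 - ((X 2 : S) • v 0 - (X 0 : S) • v 2)) +
      (X 2 : S) • (a 2 - ((X 0 : S) • v 1 - (X 1 : S) • v 0)) := by
    rw [ha]
    funext j
    simp only [Pi.add_apply, Pi.smul_apply, Pi.sub_apply, smul_eq_mul]
    ring
  have hX : ∀ i, (X i : S) ∈ idealOfVars (Fin 3) k := fun i => Ideal.subset_span ⟨i, rfl⟩
  rw [hl2]
  exact add_mem (add_mem (Submodule.smul_mem_smul (hX 0) e0) (Submodule.smul_mem_smul (hX 1) e1))
    (Submodule.smul_mem_smul (hX 2) e2)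

end K581.Kos3
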