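import Groth.Agent.CAlgX.K581.McCoy
import Mathlib.LinearAlgebra.TensorProduct.Basic
import Mathlib.LinearAlgebra.Finsupp.Pi
import Mathlib.Algebra.Module.Projective

/-!
# Left inverses up to maximal minors; universal injectivity over rings with property (P)
-/

set_option autoImplicit false
universe u v

namespace K581.LeftInv

open CAlgX Matrix Groth.Agent.CalgB.Minors K581.McCoy

variable {R : Type u} [CommRing R] {m n : ℕ}

/-- every element `d` of the ideal of maximal minors gives `L` with `L * M = d` -/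
theorem exists_mul_eq_smul (M : Matrix (Fin n) (Fin m) R) (d : R) (hd : d ∈ minorIdeal M m) :
    ∃ L : Matrix (Fin m) (Fin n) R, L * M = d • (1 : Matrix (Fin m) (Fin m) R) := by
  unfold minorIdeal at hd
  induction hd using Submodule.span_induction with
  | mem x hx =>
    obtain ⟨⟨f, g⟩, rfl⟩ := hx
    refine ⟨((1 : Matrix (Fin m) (Fin m) R).submatrix id g).det •
      ((M.submatrix f id).adjugate * (1 : Matrix (Fin n) (Fin n) R).submatrix f id), ?_⟩
    have h1 : (1 : Matrix (Fin n) (Fin n) R).submatrix f id * M = M.submatrix f id := by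
      ext i j
      simp [Matrix.mul_apply, Matrix.one_apply]
    rw [Matrix.smul_mul, Matrix.mul_assoc, h1, Matrix.adjugate_mul, smul_smul, mul_comm]
    dsimp only
    rw [← det_submatrix_col]
  | zero => exact ⟨0, by simp⟩
  | add x y _ _ hx hy =>
    obtain ⟨L, hL⟩ := hx
    obtain ⟨L', hL'⟩ := hy
    exact ⟨L + L', by rw [Matrix.add_mul, hL, hL', add_smul]⟩
  | smul a x _ hx =>
    obtain ⟨L, hL⟩ := hx
    exact ⟨a • L, by rw [Matrix.smul_mul, hL, smul_smul, smul_eq_mul]⟩

/-- over a ring where proper finitely generated ideals have nonzero annihilator, an injective matrix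
has a left inverse -/
theorem exists_left_inverse (hP : (∀ I : Ideal R, I.FG → I ≠ ⊤ → I.annihilator ≠ ⊥))
    (M : Matrix (Fin n) (Fin m) R) (hM : Function.Injective M.mulVecLin) :
    ∃ L : Matrix (Fin m) (Fin n) R, L * M = 1 := by
  have h1 : minorIdeal M m = ⊤ := by
    by_contra hcon
    exact hP _ (Submodule.fg_span (Set.finite_range _)) hcon (annihilator_of_injective M hM)
  obtain ⟨L, hL⟩ := exists_mul_eq_smul M 1 (by rw [h1]; trivial)
  exact ⟨L, by rw [hL, one_smul]⟩

theorem exists_retraction_finsupp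
    (hP : (∀ I : Ideal R, I.FG → I ≠ ⊤ → I.annihilator ≠ ⊥)) {J : Type v}
    (w : (Fin m → R) →ₗ[R] (J →₀ R)) (hw : Function.Injective w) :
    ∃ r : (J →₀ R) →ₗ[R] (Fin m → R), r ∘ₗ w = LinearMap.id := by
  classical
  let T : Finset J := Finset.univ.biUnion fun i : Fin m => (w (Pi.single i 1)).support
  have hT : ∀ x : Fin m → R, (w x).support ⊆ T := by
    intro x
    have hx : w x = ∑ i, x i • w (Pi.single i 1) := by
      conv_lhs => rw [pi_eq_sum_univ' x]
      simp only [map_sum, map_smul]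
    intro j hj
    by_contra hjT
    rw [Finsupp.mem_support_iff, hx, Finsupp.finsetSum_apply] at hj
    apply hj
    refine Finset.sum_eq_zero fun i _ => ?_
    rw [Finsupp.smul_apply]
    have : j ∉ (w (Pi.single i 1)).support := fun h =>
      hjT (Finset.mem_biUnion.2 ⟨i, Finset.mem_univ i, h⟩)
    rw [Finsupp.notMem_support_iff.1 this, smul_zero]
  let e : Fin T.card ≃ ↥T := T.equivFin.symm
  let p : (J →₀ R) →ₗ[R] (Fin T.card → R) := LinearMap.pi fun i => Finsupp.lapply (e i : J)
  have hpw : Function.Injective (p ∘ₗ w) := by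
    rw [← LinearMap.ker_eq_bot, LinearMap.ker_eq_bot']
    intro x hx
    apply hw
    rw [map_zero]
    ext j
    rw [Finsupp.coe_zero, Pi.zero_apply]
    by_cases hj : j ∈ T
    · have h1 := congrFun hx (e.symm ⟨j, hj⟩)
      simpa [p] using h1
    · exact Finsupp.notMem_support_iff.1 fun h => hj (hT x h)
  obtain ⟨L, hL⟩ := exists_left_inverse hP (LinearMap.toMatrix' (p ∘ₗ w)) (by
    have : (LinearMap.toMatrix' (p ∘ₗ w)).mulVecLin = p ∘ₗ w := Matrix.toLin'_toMatrix' _
    rw [this]; exact hpw)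
  refine ⟨L.mulVecLin ∘ₗ p, ?_⟩
  have h2 := congrArg Matrix.toLin' hL
  rw [Matrix.toLin'_mul, Matrix.toLin'_toMatrix', Matrix.toLin'_one] at h2
  exact h2

/-- inclusion of a finite coordinate subspace -/
noncomputable def incl {I : Type v} {t : ℕ} (e : Fin t → I) : (Fin t → R) →ₗ[R] (I →₀ R) :=
  (Finsupp.lmapDomain R R e) ∘ₗ (Finsupp.linearEquivFunOnFinite R R (Fin t)).symm.toLinearMap

theorem incl_injective {I : Type v} {t : ℕ} (e : Fin t → I) (he : Function.Injective e) :
    Function.Injective (incl (R := R) e) :=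
  (Finsupp.mapDomain_injective he).comp (LinearEquiv.injective _)

theorem incl_apply {I : Type v} (f : I →₀ R) (T : Finset I) (hT : f.support ⊆ T)
    (e : Fin T.card ≃ ↥T) : incl (fun i => (e i : I)) (fun i => f (e i)) = f := by
  have hinj : Function.Injective (fun i => (e i : I)) := fun a b h => e.injective (Subtype.ext h)
  ext j
  by_cases hj : j ∈ T
  · obtain ⟨i, hi⟩ : ∃ i, (e i : I) = j := ⟨e.symm ⟨j, hj⟩, by simp⟩
    rw [← hi]
    have h1 := Finsupp.mapDomain_apply hinj
      ((Finsupp.linearEquivFunOnFinite R R (Fin T.card)).symm (fun i => f (e i))) i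
    exact h1.trans rfl
  · have h1 : j ∉ Set.range (fun i => (e i : I)) := by
      rintro ⟨i, rfl⟩
      exact hj (e i).2
    rw [Finsupp.notMem_support_iff.1 fun h => hj (hT h)]
    exact Finsupp.mapDomain_of_notMem_range _ _ h1

open TensorProduct in
theorem rTensor_injective_of_free
    (hP : (∀ I : Ideal R, I.FG → I ≠ ⊤ → I.annihilator ≠ ⊥)) {I J : Type v}
    (w : (I →₀ R) →ₗ[R] (J →₀ R)) (hw : Function.Injective w)
    (Q : Type v) [AddCommGroup Q] [Module R Q] : Function.Injective (w.rTensor Q) := by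
  classical
  rw [injective_iff_map_eq_zero]
  intro y hy
  -- `y` comes from a finite free submodule
  have key : ∀ y : (I →₀ R) ⊗[R] Q, ∃ (S : Finset I), ∀ T : Finset I, S ⊆ T →
      ∀ (e : Fin T.card ≃ ↥T),
      ∃ z : (Fin T.card → R) ⊗[R] Q, (incl (fun i => (e i : I))).rTensor Q z = y := by
    intro y
    induction y using TensorProduct.induction_on with
    | zero => exact ⟨∅, fun T _ e => ⟨0, by simp⟩⟩
    | tmul f q =>
      refine ⟨f.support, fun T hT e => ⟨(fun i => f (e i)) ⊗ₜ q, ?_⟩⟩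
      rw [LinearMap.rTensor_tmul, incl_apply f T hT e]
    | add x y hx hy =>
      obtain ⟨S, hS⟩ := hx
      obtain ⟨S', hS'⟩ := hy
      refine ⟨S ∪ S', fun T hT e => ?_⟩
      obtain ⟨z, hz⟩ := hS T (Finset.union_subset_left hT) e
      obtain ⟨z', hz'⟩ := hS' T (Finset.union_subset_right hT) e
      exact ⟨z + z', by rw [map_add, hz, hz']⟩
  obtain ⟨S, hS⟩ := key y
  let e : Fin S.card ≃ ↥S := S.equivFin.symm
  obtain ⟨z, rfl⟩ := hS S (Finset.Subset.refl S) e
  obtain ⟨r, hr⟩ := exists_retraction_finsupp hP (w ∘ₗ incl (fun i => (e i : I)))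
    (hw.comp (incl_injective _ fun a b h => e.injective (Subtype.ext h)))
  have h1 : (w ∘ₗ incl (fun i => (e i : I))).rTensor Q z = 0 := by
    rw [LinearMap.rTensor_comp]; exact hy
  have h2 : (r ∘ₗ (w ∘ₗ incl (fun i => (e i : I)))).rTensor Q z = 0 := by
    rw [LinearMap.rTensor_comp, LinearMap.comp_apply, h1, map_zero]
  rw [hr, LinearMap.rTensor_id, LinearMap.id_apply] at h2
  rw [h2, map_zero]

theorem rTensor_injective_of_projective
    (hP : (∀ I : Ideal R, I.FG → I ≠ ⊤ → I.annihilator ≠ ⊥)) {N M : Type v}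
    [AddCommGroup N] [Module R N] [Module.Projective R N] [AddCommGroup M] [Module R M]
    [Module.Projective R M] (u : N →ₗ[R] M) (hu : Function.Injective u)
    (Q : Type v) [AddCommGroup Q] [Module R Q] : Function.Injective (u.rTensor Q) := by
  obtain ⟨s, hs⟩ := Module.projective_def'.1 (inferInstance : Module.Projective R N)
  obtain ⟨s', hs'⟩ := Module.projective_def'.1 (inferInstance : Module.Projective R M)
  set π := Finsupp.linearCombination R (id : N → N)
  set π' := Finsupp.linearCombination R (id : M → M)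
  have hs1 : ∀ x, π (s x) = x := fun x => LinearMap.congr_fun hs x
  have hs1' : ∀ x, π' (s' x) = x := fun x => LinearMap.congr_fun hs' x
  have hsinj' : Function.Injective s' := fun x y h => by rw [← hs1' x, h, hs1']
  let e : ((M ⊕ N) →₀ R) ≃ₗ[R] (M →₀ R) × (N →₀ R) := Finsupp.sumFinsuppLEquivProdFinsupp R
  let v : (N →₀ R) →ₗ[R] ((M ⊕ N) →₀ R) := e.symm.toLinearMap ∘ₗ
    (LinearMap.prod (s' ∘ₗ u ∘ₗ π) (LinearMap.id - s ∘ₗ π))
  have hv : Function.Injective v := by
    refine e.symm.injective.comp ?_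
    rw [injective_iff_map_eq_zero]
    intro y hy
    have h1 : s' (u (π y)) = 0 := congrArg Prod.fst hy
    have h2 : y - s (π y) = 0 := congrArg Prod.snd hy
    have h3 : u (π y) = 0 := hsinj' (by rw [h1, map_zero])
    have h4 : π y = 0 := hu (by rw [h3, map_zero])
    rwa [h4, map_zero, sub_zero] at h2
  have h5 := rTensor_injective_of_free hP v hv Q
  have h6 : v ∘ₗ s = e.symm.toLinearMap ∘ₗ LinearMap.inl R _ _ ∘ₗ s' ∘ₗ u := by
    ext1 x
    change e.symm (s' (u (π (s x))), s x - s (π (s x))) = e.symm (s' (u x), 0)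
    rw [hs1, sub_self]
  have h7 : Function.Injective (s.rTensor Q) := by
    intro x y hxy
    have h8 := congrArg (π.rTensor Q) hxy
    rw [← LinearMap.comp_apply, ← LinearMap.comp_apply, ← LinearMap.rTensor_comp, hs,
      LinearMap.rTensor_id] at h8
    exact h8
  have h8 : Function.Injective ((v ∘ₗ s).rTensor Q) := by
    rw [LinearMap.rTensor_comp]
    exact h5.comp h7
  have h9 : v ∘ₗ s = (e.symm.toLinearMap ∘ₗ LinearMap.inl R _ _ ∘ₗ s') ∘ₗ u := h6
  rw [h9, LinearMap.rTensor_comp] at h8
  exact Function.Injective.of_comp h8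

end K581.LeftInv
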