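import Groth.Agent.CalgB.Minors
import Mathlib.RingTheory.Ideal.AssociatedPrime.Finiteness
import Mathlib.RingTheory.Ideal.Maximal

/-!
# McCoy's theorem: a matrix is injective iff its ideal of maximal minors is faithful
-/

set_option autoImplicit false
universe u

namespace K581.McCoy

open CAlgX Matrix Groth.Agent.CalgB.Minors

variable {R : Type u} [CommRing R] {m n : ℕ}

/-- a maximal minor is a multiple of the minor with all columns in order -/
lemma det_submatrix_col {n : Type} (M : Matrix n (Fin m) R) (f : Fin m → n)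
    (g : Fin m → Fin m) : (M.submatrix f g).det =
      (M.submatrix f id).det * ((1 : Matrix (Fin m) (Fin m) R).submatrix id g).det := by
  rw [← Matrix.det_mul]
  congr 1
  ext i j
  simp [Matrix.mul_apply, Matrix.one_apply]

lemma det_smul_eq_zero (M : Matrix (Fin n) (Fin m) R) (x : Fin m → R) (hx : M.mulVec x = 0)
    (f : Fin m → Fin n) : (M.submatrix f id).det • x = 0 := by
  have h1 : (M.submatrix f id).mulVec x = 0 := by
    ext i
    exact congrFun hx (f i)
  have h2 := congrArg (M.submatrix f id).adjugate.mulVec h1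
  rwa [Matrix.mulVec_mulVec, Matrix.adjugate_mul, Matrix.smul_mulVec, Matrix.one_mulVec,
    Matrix.mulVec_zero] at h2

/-- elements of the ideal of maximal minors kill the kernel -/
lemma smul_eq_zero_of_mem (M : Matrix (Fin n) (Fin m) R) (x : Fin m → R) (hx : M.mulVec x = 0)
    (d : R) (hd : d ∈ minorIdeal M m) : d • x = 0 := by
  have h : minorIdeal M m ≤ (Submodule.span R {x}).annihilator := by
    rw [minorIdeal_le_iff]
    intro f g
    rw [det_submatrix_col, Submodule.mem_annihilator_span_singleton, mul_comm, mul_smul,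
      det_smul_eq_zero M x hx f, smul_zero]
  exact Submodule.mem_annihilator_span_singleton _ _ |>.1 (h hd)

theorem injective_of_annihilator (M : Matrix (Fin n) (Fin m) R)
    (h : (minorIdeal M m).annihilator = ⊥) : Function.Injective M.mulVecLin := by
  rw [← LinearMap.ker_eq_bot, LinearMap.ker_eq_bot']
  intro x hx
  ext j
  have h1 : x j ∈ (minorIdeal M m).annihilator := by
    rw [Submodule.mem_annihilator]
    intro d hd
    have h2 := congrFun (smul_eq_zero_of_mem M x hx d hd) j
    rw [smul_eq_mul, mul_comm]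
    exact h2
  rw [h] at h1
  exact h1

theorem annihilator_of_injective (M : Matrix (Fin n) (Fin m) R)
    (h : Function.Injective M.mulVecLin) : (minorIdeal M m).annihilator = ⊥ := by
  classical
  rw [eq_bot_iff]
  intro a ha
  by_contra hane
  have ha0 : a ≠ 0 := hane
  have hkill : ∀ d ∈ minorIdeal M m, a * d = 0 := fun d hd => Submodule.mem_annihilator.1 ha d hd
  -- the largest size of minors not killed by `a`
  obtain ⟨r, hr, hr'⟩ : ∃ r, (∃ (f : Fin r → Fin n) (g : Fin r → Fin m),
      a * (M.submatrix f g).det ≠ 0) ∧ r < m ∧ ∀ (f : Fin (r + 1) → Fin n) (g : Fin (r + 1) → Fin m),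
      a * (M.submatrix f g).det = 0 := by
    by_contra hcon
    push Not at hcon
    have h1 : ∀ r, r ≤ m → ∃ (f : Fin r → Fin n) (g : Fin r → Fin m),
      a * (M.submatrix f g).det ≠ 0 := by
      intro r
      induction r with
      | zero =>
        intro _
        refine ⟨Fin.elim0, Fin.elim0, ?_⟩
        rw [Matrix.det_isEmpty, mul_one]
        exact ha0
      | succ r ih =>
        intro hr
        obtain ⟨f, g, hfg⟩ := ih (by omega)
        exact hcon r ⟨f, g, hfg⟩ (by omega)
    obtain ⟨f, g, hfg⟩ := h1 m le_rfl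
    exact hfg (hkill _ (det_mem_minorIdeal M f g))
  obtain ⟨f, g, hfg⟩ := hr
  obtain ⟨hrm, hr1⟩ := hr'
  -- a column not in the minor
  obtain ⟨j₀, hj₀⟩ : ∃ j₀, j₀ ∉ Set.range g := by
    by_contra hcon
    push Not at hcon
    have : Function.Surjective g := hcon
    have := Fintype.card_le_of_surjective g this
    simp at this
    omega
  let g' : Fin (r + 1) → Fin m := Fin.cons j₀ g
  let x : Fin m → R := ∑ k : Fin (r + 1), Pi.single (g' k)
    (a * ((-1) ^ (k : ℕ) * (M.submatrix f (g' ∘ k.succAbove)).det))
  have hxj : x j₀ = a * (M.submatrix f g).det := by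
    have h1 : x j₀ = ∑ k : Fin (r + 1), (Pi.single (g' k)
      (a * ((-1) ^ (k : ℕ) * (M.submatrix f (g' ∘ k.succAbove)).det)) : Fin m → R) j₀ := by
      simp only [x, Finset.sum_apply]
    rw [h1, Fin.sum_univ_succ, Finset.sum_eq_zero, add_zero]
    · have h2 : g' 0 = j₀ := rfl
      rw [h2, Pi.single_eq_same]
      have h3 : g' ∘ (0 : Fin (r + 1)).succAbove = g := by
        ext k; simp [g']
      rw [h3]; simp
    · intro k _
      have h2 : g' k.succ = g k := rfl
      rw [h2, Pi.single_eq_of_ne]
      rintro rfl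
      exact hj₀ ⟨k, rfl⟩
  have hMx : M.mulVec x = 0 := by
    ext i
    have h1 : M.mulVec x i = ∑ k : Fin (r + 1), M i (g' k) *
      (a * ((-1) ^ (k : ℕ) * (M.submatrix f (g' ∘ k.succAbove)).det)) := by
      simp only [x, Matrix.mulVec_sum, Finset.sum_apply]
      refine Finset.sum_congr rfl fun k _ => ?_
      rw [Matrix.mulVec_single]
      simp
    have h2 : M.mulVec x i = a * (M.submatrix (Fin.cons i f) g').det := by
      rw [h1, Matrix.det_succ_row_zero, Finset.mul_sum]
      refine Finset.sum_congr rfl fun k _ => ?_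
      have h3 : (M.submatrix (Fin.cons i f) g').submatrix Fin.succ k.succAbove =
          M.submatrix f (g' ∘ k.succAbove) := by
        ext a b; simp
      rw [h3]
      simp only [Matrix.submatrix_apply, Fin.cons_zero]
      ring
    rw [h2, hr1]; rfl
  have hx0 : x = 0 := h (by rw [Matrix.mulVecLin_apply, hMx, map_zero])
  apply hfg
  rw [← hxj, hx0]; rfl

/-- McCoy's theorem -/
theorem injective_iff (M : Matrix (Fin n) (Fin m) R) :
    Function.Injective M.mulVecLin ↔ (minorIdeal M m).annihilator = ⊥ :=
  ⟨annihilator_of_injective M, injective_of_annihilator M⟩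

theorem ker_eq_bot_iff (M : Matrix (Fin n) (Fin m) R) :
    LinearMap.ker M.mulVecLin = ⊥ ↔ (minorIdeal M m).annihilator = ⊥ := by
  rw [LinearMap.ker_eq_bot, injective_iff]

/-- over a Noetherian ring a faithful ideal contains a non-zero-divisor -/
theorem exists_nonZeroDivisor [IsNoetherianRing R] (J : Ideal R) (h : J.annihilator = ⊥) :
    ∃ a ∈ J, a ∈ nonZeroDivisors R := by
  by_contra hcon
  push Not at hcon
  have h1 := Ideal.bot_lt_annihilator_of_disjoint_nonZeroDivisors (I := J)
    (Set.disjoint_left.2 fun a ha ha' => hcon a ha ha')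
  exact h1.ne' h

theorem annihilator_eq_bot_of_mem {J : Ideal R} {a : R} (ha : a ∈ J) (ha' : a ∈ nonZeroDivisors R) :
    J.annihilator = ⊥ := by
  rw [eq_bot_iff]
  intro x hx
  have h1 : x * a = 0 := Submodule.mem_annihilator.1 hx a ha
  exact (mem_nonZeroDivisors_iff_right.1 ha') x h1

theorem ker_eq_bot_iff_exists [IsNoetherianRing R] (M : Matrix (Fin n) (Fin m) R) :
    LinearMap.ker M.mulVecLin = ⊥ ↔ ∃ a ∈ minorIdeal M m, a ∈ nonZeroDivisors R := by
  rw [ker_eq_bot_iff]
  exact ⟨exists_nonZeroDivisor _, fun ⟨a, ha, ha'⟩ => annihilator_eq_bot_of_mem ha ha'⟩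

lemma minorIdeal_succ_col (M : Matrix (Fin n) (Fin m) R) : minorIdeal M (m + 1) = ⊥ := by
  rw [← minorIdeal_transpose]
  exact minorIdeal_eq_bot_of_card_lt _ (by simp)

/-- rank form of McCoy's theorem -/
theorem injective_iff_rank [Nontrivial R] (M : Matrix (Fin n) (Fin m) R) :
    Function.Injective M.mulVecLin ↔ matrixRank M = m ∧ (detIdeal M).annihilator = ⊥ := by
  constructor
  · intro h
    have h1 := annihilator_of_injective M h
    have h2 : matrixRank M = m := by
      refine matrixRank_eq ?_ (minorIdeal_succ_col M)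
      intro h3
      rw [h3, Submodule.annihilator_bot] at h1
      exact top_ne_bot h1
    refine ⟨h2, ?_⟩
    rw [detIdeal, h2, h1]
  · rintro ⟨h1, h2⟩
    rw [detIdeal, h1] at h2
    exact injective_of_annihilator M h2

end K581.McCoy
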