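import Groth.Agent.CAlgX.K581.HomDim
import Mathlib.LinearAlgebra.FiniteDimensional.Lemmas
import Mathlib.LinearAlgebra.Basis.VectorSpace
import Mathlib.LinearAlgebra.Dual.Lemmas

/-!
# Linear forms and products of linear forms through points
-/

set_option autoImplicit false
universe u

open MvPolynomial

namespace K581.PlanePts

variable {k : Type u} [Field k]

/-- the polynomial of a linear functional -/
noncomputable def lin {m : ℕ} (ℓ : (Fin m → k) →ₗ[k] k) : MvPolynomial (Fin m) k :=
  ∑ i, C (ℓ (Pi.single i 1)) * X i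

lemma lin_isHomogeneous {m : ℕ} (ℓ : (Fin m → k) →ₗ[k] k) : (lin ℓ).IsHomogeneous 1 := by
  refine IsHomogeneous.sum _ _ _ fun i _ => ?_
  have := (isHomogeneous_C (Fin m) (ℓ (Pi.single i 1))).mul (isHomogeneous_X k i)
  simpa using this

lemma aeval_lin {m : ℕ} (ℓ : (Fin m → k) →ₗ[k] k) (v : Fin m → k) : aeval v (lin ℓ) = ℓ v := by
  conv_rhs => rw [pi_eq_sum_univ' v, map_sum]
  rw [lin, map_sum]
  refine Finset.sum_congr rfl fun i _ => ?_
  rw [map_mul, algHom_C, aeval_X, map_smul, smul_eq_mul, Algebra.algebraMap_self, RingHom.id_apply]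
  ring

/-- a line through a point avoiding another -/
lemma exists_lin {m : ℕ} (p : Submodule k (Fin m → k)) (q : Fin m → k) (h : q ∉ p) :
    ∃ L : MvPolynomial (Fin m) k, L.IsHomogeneous 1 ∧ (∀ v ∈ p, aeval v L = 0) ∧ aeval q L ≠ 0 := by
  obtain ⟨f, hf, hfp⟩ := Submodule.exists_le_ker_of_notMem h
  refine ⟨lin f, lin_isHomogeneous f, fun v hv => ?_, ?_⟩
  · rw [aeval_lin]; exact hfp hv
  · rwa [aeval_lin]

/-- a product of lines through finitely many points, avoiding `q` -/
lemma exists_prod {m : ℕ} (s : Finset (Fin m → k)) (q : Fin m → k)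
    (h : ∀ v ∈ s, q ∉ Submodule.span k {v}) :
    ∃ F : MvPolynomial (Fin m) k, F.IsHomogeneous s.card ∧ (∀ v ∈ s, aeval v F = 0) ∧
      aeval q F ≠ 0 := by
  classical
  choose! L hL1 hL2 hL3 using fun v (hv : v ∈ s) => exists_lin (Submodule.span k {v}) q (h v hv)
  refine ⟨∏ v ∈ s, L v, ?_, ?_, ?_⟩
  · have := IsHomogeneous.prod s L (fun _ => 1) (fun v hv => hL1 v hv)
    simpa using this
  · intro v hv
    rw [map_prod]
    exact Finset.prod_eq_zero hv (hL2 v hv v (Submodule.mem_span_singleton_self v))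
  · rw [map_prod]
    exact Finset.prod_ne_zero_iff.2 fun v hv => hL3 v hv

/-- forms vanishing on a finite set -/
noncomputable abbrev V (m d : ℕ) (s : Finset (Fin m → k)) : Submodule k (MvPolynomial (Fin m) k) :=
  homogeneousSubmodule (Fin m) k d ⊓ ⨅ v ∈ s, LinearMap.ker (aeval v : MvPolynomial (Fin m) k →ₐ[k] k).toLinearMap

lemma mem_V {m d : ℕ} {s : Finset (Fin m → k)} {F : MvPolynomial (Fin m) k} :
    F ∈ V m d s ↔ F.IsHomogeneous d ∧ ∀ v ∈ s, aeval v F = 0 := by
  simp only [V, Submodule.mem_inf, Submodule.mem_iInf, LinearMap.mem_ker]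
  rfl

/-- points impose independent conditions when each one is separated from the others -/
theorem finrank_V {m d : ℕ} (s : Finset (Fin (m + 1) → k))
    (h : ∀ v ∈ s, ∃ F : MvPolynomial (Fin (m + 1)) k, F.IsHomogeneous d ∧
      (∀ w ∈ s, w ≠ v → aeval w F = 0) ∧ aeval v F ≠ 0) :
    Module.finrank k (V (m + 1) d s) = Nat.choose (d + m) m - s.card := by
  classical
  have hfin := K581.HomDim.finite_homogeneous k m d
  let H := homogeneousSubmodule (Fin (m + 1)) k d
  let ev : H →ₗ[k] (s → k) := LinearMap.pi fun v =>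
    (aeval (v : Fin (m + 1) → k) : MvPolynomial (Fin (m + 1)) k →ₐ[k] k).toLinearMap ∘ₗ H.subtype
  have hsurj : Function.Surjective ev := by
    rw [← LinearMap.range_eq_top, eq_top_iff]
    intro y _
    rw [pi_eq_sum_univ' y]
    refine Submodule.sum_mem _ fun v _ => Submodule.smul_mem _ _ ?_
    obtain ⟨F, hF1, hF2, hF3⟩ := h v v.2
    refine ⟨(aeval (v : Fin (m + 1) → k) F)⁻¹ • ⟨F, hF1⟩, ?_⟩
    rw [map_smul]
    ext w
    by_cases hw : w = v
    · subst hw
      rw [Pi.single_eq_same]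
      exact inv_mul_cancel₀ hF3
    · rw [Pi.single_eq_of_ne hw]
      have h1 : aeval (w : Fin (m + 1) → k) F = 0 := hF2 w w.2 fun h => hw (Subtype.ext h)
      change (aeval (v : Fin (m + 1) → k) F)⁻¹ * aeval (w : Fin (m + 1) → k) F = 0
      rw [h1, mul_zero]
  have hker : (LinearMap.ker ev).map H.subtype = V (m + 1) d s := by
    ext F
    rw [mem_V]
    constructor
    · rintro ⟨G, hG, rfl⟩
      refine ⟨G.2, fun v hv => congrFun hG ⟨v, hv⟩⟩
    · rintro ⟨hF1, hF2⟩
      refine ⟨⟨F, hF1⟩, ?_, rfl⟩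
      ext v
      exact hF2 v v.2
  have h1 := LinearMap.finrank_range_add_finrank_ker ev
  rw [LinearMap.range_eq_top.2 hsurj, finrank_top, Module.finrank_fintype_fun_eq_card,
    Fintype.card_coe] at h1
  have h2 : Module.finrank k H = Nat.choose (d + m) m := K581.HomDim.finrank_homogeneous k m d
  rw [h2] at h1
  have h3 : Module.finrank k (V (m + 1) d s) = Module.finrank k (LinearMap.ker ev) := by
    rw [← hker]
    exact LinearEquiv.finrank_eq (Submodule.equivMapOfInjective H.subtype H.injective_subtype _).symm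
  rw [h3]
  exact Nat.eq_sub_of_add_eq (by rw [add_comm]; exact h1)

end K581.PlanePts
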