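import Groth.Agent.CAlgX.K581.Kos3
import Groth.Agent.CAlgX.K581.GradGen
import Mathlib.LinearAlgebra.Matrix.ToLin

/-!
# The minimal free resolution of a homogeneous ideal of `k[x₀, x₁, x₂]` without socle
-/

set_option autoImplicit false
universe u

namespace K581.PointsRes

open MvPolynomial

variable {k : Type u} [Field k]

local notation "S" => MvPolynomial (Fin 3) k

/-- A homogeneous ideal `I` of `S = k[x₀,x₁,x₂]` such that `S/I` has no socle has a minimal free resolution
`0 → Sᵗ → Sᵐ → I → 0`. -/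
theorem exists_minimal_resolution (I : Ideal S)
    (hgr : ∀ f ∈ I, ∀ j, homogeneousComponent j f ∈ I)
    (hsoc : ∀ c : S, (∀ i, X i * c ∈ I) → c ∈ I) :
    ∃ (m t : ℕ) (Ψ : Matrix (Fin m) (Fin t) S) (π : (Fin m → S) →ₗ[S] S),
      LinearMap.ker Ψ.mulVecLin = ⊥ ∧ LinearMap.ker π = LinearMap.range Ψ.mulVecLin ∧
      LinearMap.range π = I ∧ ∀ i j, constantCoeff (Ψ i j) = 0 := by
  -- generators of `I`
  let K1 : Submodule S (Fin 1 → S) := Submodule.comap (LinearMap.proj 0) I
  have hK1 : ∀ v ∈ K1, ∀ e, GradGen.comp (fun _ : Fin 1 => 0) e v ∈ K1 := by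
    intro v hv e
    change GradGen.comp (fun _ : Fin 1 => 0) e v 0 ∈ I
    rw [GradGen.comp_apply, if_pos (Nat.zero_le _)]
    exact hgr _ hv _
  obtain ⟨m, q, u, hu, hspan, hmin⟩ := GradGen.exists_min_gens hK1
  let π : (Fin m → S) →ₗ[S] S := Fintype.linearCombination S (fun j => u j 0)
  have hπ : ∀ a : Fin m → S, π a = (∑ j, a j • u j) 0 := fun a => by
    simp [π, Fintype.linearCombination_apply]
  have hπ0 : ∀ a : Fin m → S, π a = 0 ↔ ∑ j, a j • u j = 0 := fun a => by
    rw [hπ]
    constructor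
    · intro h
      funext i
      rw [Subsingleton.elim i 0]
      exact h
    · intro h
      rw [h]
      rfl
  have hπI : LinearMap.range π = I := by
    apply le_antisymm
    · rintro _ ⟨a, rfl⟩
      rw [hπ]
      have : ∑ j, a j • u j ∈ K1 := by
        rw [← hspan]
        exact Submodule.sum_mem _ fun j _ => Submodule.smul_mem _ _ (Submodule.subset_span ⟨j, rfl⟩)
      exact this
    · intro f hf
      have h1 : (fun _ : Fin 1 => f) ∈ K1 := hf
      rw [← hspan, Submodule.mem_span_range_iff_exists_fun] at h1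
      obtain ⟨a, ha⟩ := h1
      exact ⟨a, by rw [hπ, ha]⟩
  -- generators of the kernel
  have hK2 : ∀ v ∈ LinearMap.ker π, ∀ e, GradGen.comp q e v ∈ LinearMap.ker π := by
    intro v hv e
    rw [LinearMap.mem_ker, hπ0] at hv ⊢
    rw [← GradGen.comp_sum hu, hv, map_zero]
  obtain ⟨t, q', u', hu', hspan', hmin'⟩ := GradGen.exists_min_gens hK2
  let Ψ : Matrix (Fin m) (Fin t) S := Matrix.of fun i j => u' j i
  have hΨ : ∀ a : Fin t → S, Ψ.mulVecLin a = ∑ j, a j • u' j := fun a => by
    funext i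
    rw [Matrix.mulVecLin_apply, Matrix.mulVec, dotProduct, Finset.sum_apply]
    refine Finset.sum_congr rfl fun j _ => ?_
    rw [Pi.smul_apply, smul_eq_mul, mul_comm]
    rfl
  have hrange : LinearMap.range Ψ.mulVecLin = LinearMap.ker π := by
    rw [← hspan']
    apply le_antisymm
    · rintro _ ⟨a, rfl⟩
      rw [hΨ]
      exact Submodule.sum_mem _ fun j _ => Submodule.smul_mem _ _ (Submodule.subset_span ⟨j, rfl⟩)
    · rw [Submodule.span_le]
      rintro _ ⟨j, rfl⟩
      refine ⟨Pi.single j 1, ?_⟩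
      rw [hΨ, Finset.sum_eq_single j]
      · simp
      · intro i _ hi
        simp [hi]
      · intro h
        exact absurd (Finset.mem_univ _) h
  refine ⟨m, t, Ψ, π, ?_, hrange.symm, hπI, ?_⟩
  · apply Kos3.ker_eq_bot
    · intro a ha h
      rw [hrange] at ha ⊢
      exact Kos3.syz_h1 I hsoc π hπI a ha h
    · intro l hl j
      rw [LinearMap.mem_ker, hΨ] at hl
      exact hmin' l hl j
  · intro i j
    have h1 : u' j ∈ LinearMap.ker π := by
      rw [← hspan']
      exact Submodule.subset_span ⟨j, rfl⟩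
    rw [LinearMap.mem_ker, hπ0] at h1
    exact hmin _ h1 i

section Points

variable (Z : Finset (Fin 3 → k)) (hZ : ∀ p ∈ Z, p ≠ 0) (I : Ideal (MvPolynomial (Fin 3) k))
    (hI : ∀ f : MvPolynomial (Fin 3) k, f ∈ I ↔ ∀ p ∈ Z, ∀ j : ℕ, eval p (homogeneousComponent j f) = 0)

include hI

theorem graded (f : MvPolynomial (Fin 3) k) (hf : f ∈ I) (j : ℕ) : homogeneousComponent j f ∈ I := by
  rw [hI] at hf ⊢
  intro p hp i
  rw [homogeneousComponent_of_mem (homogeneousComponent_isHomogeneous j f)]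
  split_ifs
  · exact hf p hp j
  · rw [map_zero]

include hZ

theorem socle (c : MvPolynomial (Fin 3) k) (hc : ∀ i, X i * c ∈ I) : c ∈ I := by
  rw [hI]
  intro p hp j
  obtain ⟨i, hi⟩ := Function.ne_iff.mp (hZ p hp)
  have h1 := (hI _).mp (hc i) p hp (1 + j)
  rw [HomDim.homogeneousComponent_mul _ _ (isHomogeneous_X k i), map_mul, eval_X] at h1
  exact (mul_eq_zero.mp h1).resolve_left hi

theorem ne_bot : I ≠ ⊥ := by
  have h1 : ∀ p : Fin 3 → k, p ≠ 0 → ∃ l : MvPolynomial (Fin 3) k, l ≠ 0 ∧ l.IsHomogeneous 1 ∧ eval p l = 0 := by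
    intro p hp
    obtain ⟨i, hi⟩ := Function.ne_iff.mp hp
    obtain ⟨j, hj⟩ := exists_ne i
    refine ⟨C (p j) * X i - C (p i) * X j, ?_, ?_, ?_⟩
    · intro h
      have h2 := congrArg (coeff (Finsupp.single j 1)) h
      rw [coeff_sub, coeff_C_mul, coeff_C_mul, coeff_X, coeff_X, if_neg, if_pos rfl, coeff_zero] at h2
      · rw [mul_zero, zero_sub, mul_one, neg_eq_zero] at h2
        exact hi h2
      · intro h3
        exact hj (Finsupp.single_left_injective one_ne_zero h3).symm
    · refine IsHomogeneous.sub ?_ ?_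
      · simpa using (isHomogeneous_C (Fin 3) (p j)).mul (isHomogeneous_X k i)
      · simpa using (isHomogeneous_C (Fin 3) (p i)).mul (isHomogeneous_X k j)
    · simp [mul_comm]
  choose! l hl using h1
  intro hbot
  have h2 : (∏ p ∈ Z, l p) ≠ 0 := Finset.prod_ne_zero_iff.mpr fun p hp => (hl p (hZ p hp)).1
  apply h2
  have h3 : (∏ p ∈ Z, l p).IsHomogeneous (∑ p ∈ Z, 1) :=
    IsHomogeneous.prod Z l (fun _ => 1) fun p hp => (hl p (hZ p hp)).2.1
  have h4 : (∏ p ∈ Z, l p) ∈ I := by
    rw [hI]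
    intro p hp j
    rw [homogeneousComponent_of_mem h3]
    split_ifs
    · rw [map_prod]
      exact Finset.prod_eq_zero hp (hl p (hZ p hp)).2.2
    · rw [map_zero]
  rw [hbot] at h4
  exact h4

end Points

end K581.PointsRes
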