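import Groth.Prelude.Def_CAlgX
import Groth.Agent.CalgB.QuasiRegular
import Groth.Agent.CAlgX.K581.FlatExt
import Mathlib.RingTheory.TensorProduct.Basic
import Mathlib.RingTheory.Ideal.Quotient.Operations

/-!
# Quasi-regular sequences: the graded pieces `Jⁿ/Jⁿ⁺¹`, flatness of `B/Jⁿ` and base change
-/

set_option autoImplicit false
universe u

namespace K581.QRegBC

open MvPolynomial

section Graded

variable {B : Type u} [CommRing B] {c : ℕ} (f : Fin c → B) (n : ℕ)

theorem eval_mem_pow {P : MvPolynomial (Fin c) B} {n : ℕ} (hP : P ∈ idealOfVars (Fin c) B ^ n) :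
    eval f P ∈ Ideal.span (Set.range f) ^ n := by
  have h1 : (idealOfVars (Fin c) B).map (eval f) = Ideal.span (Set.range f) := by
    rw [idealOfVars, Ideal.map_span, ← Set.range_comp]
    congr 1
    ext x
    simp
  rw [← h1, ← Ideal.map_pow]
  exact Ideal.mem_map_of_mem _ hP

theorem homogeneous_mem_pow {P : MvPolynomial (Fin c) B} {n : ℕ} (hP : P.IsHomogeneous n) :
    P ∈ idealOfVars (Fin c) B ^ n := by
  rw [mem_pow_idealOfVars_iff]
  intro x hx
  exact (Groth.Agent.CalgB.QuasiRegular.degree_of_isHomogeneous hP (mem_support_iff.mp hx)).ge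

/-- exponents of degree `n` -/
abbrev D (c n : ℕ) : Type := {d : Fin c →₀ ℕ // d.degree = n}

instance : Finite (D c n) :=
  (Set.Finite.subset (Finsupp.finite_of_degree_le n) (fun _ hd => le_of_eq hd) :
    ({d : Fin c →₀ ℕ | d.degree = n}).Finite).to_subtype

noncomputable instance : Fintype (D c n) := Fintype.ofFinite _

/-- the monomial `f^d`. -/
noncomputable def mon (d : Fin c →₀ ℕ) : B := eval f (monomial d (1 : B))

theorem mon_mem (d : D c n) : mon f d.1 ∈ Ideal.span (Set.range f) ^ n :=
  eval_mem_pow f (homogeneous_mem_pow (isHomogeneous_monomial _ d.2))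

/-- `b ↦ Σ b_d f^d`. -/
noncomputable def mu : (D c n → B) →ₗ[B] B :=
  Fintype.linearCombination B (fun d : D c n => mon f d.1)

theorem mu_apply (b : D c n → B) : mu f n b = ∑ d, b d * mon f d.1 := by
  simp [mu, Fintype.linearCombination_apply]

/-- the polynomial with coefficients `b`. -/
noncomputable def poly (b : D c n → B) : MvPolynomial (Fin c) B :=
  ∑ d : D c n, monomial d.1 (b d)

theorem poly_isHomogeneous (b : D c n → B) : (poly n b).IsHomogeneous n :=
  IsHomogeneous.sum _ _ _ fun d _ => isHomogeneous_monomial _ d.2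

theorem eval_poly (b : D c n → B) : eval f (poly n b) = mu f n b := by
  rw [mu_apply, poly, map_sum]
  refine Finset.sum_congr rfl fun d _ => ?_
  rw [mon, eval_monomial, eval_monomial, one_mul]

theorem coeff_poly (b : D c n → B) (d : D c n) : coeff d.1 (poly n b) = b d := by
  rw [poly, coeff_sum]
  simp only [coeff_monomial]
  rw [Finset.sum_eq_single d]
  · simp
  · intro e _ he
    rw [if_neg (fun h => he (Subtype.ext h))]
  · intro h; exact absurd (Finset.mem_univ _) h

theorem poly_coeff {P : MvPolynomial (Fin c) B} (hP : P.IsHomogeneous n) :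
    poly n (fun d => coeff d.1 P) = P := by
  ext e
  by_cases he : e.degree = n
  · exact coeff_poly n _ ⟨e, he⟩
  · rw [(poly_isHomogeneous n _).coeff_eq_zero, hP.coeff_eq_zero]
    · exact he
    · exact he

theorem mu_mem_of (b : D c n → B) (hb : ∀ d, b d ∈ Ideal.span (Set.range f)) :
    mu f n b ∈ Ideal.span (Set.range f) ^ (n + 1) := by
  rw [mu_apply, pow_succ']
  exact Ideal.sum_mem _ fun d _ => Ideal.mul_mem_mul (hb d) (mon_mem f n d)

theorem mu_mem (b : D c n → B) : mu f n b ∈ Ideal.span (Set.range f) ^ n := by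
  rw [mu_apply]
  exact Ideal.sum_mem _ fun d _ => Ideal.mul_mem_left _ _ (mon_mem f n d)

theorem of_mu_mem (hf : CAlgX.IsQuasiRegular f) (b : D c n → B)
    (h : mu f n b ∈ Ideal.span (Set.range f) ^ (n + 1)) (d : D c n) :
    b d ∈ Ideal.span (Set.range f) := by
  rw [← eval_poly] at h
  have := hf n _ (poly_isHomogeneous n b) h d.1
  rwa [coeff_poly] at this

theorem exists_mu_sub_mem (r : B) (hr : r ∈ Ideal.span (Set.range f) ^ n) :
    ∃ b : D c n → B, r - mu f n b ∈ Ideal.span (Set.range f) ^ (n + 1) := by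
  obtain ⟨P, hP, hPr⟩ := Groth.Agent.CalgB.QuasiRegular.exists_mem_pow_eval (f := f) n r hr
  refine ⟨fun d => coeff d.1 (homogeneousComponent n P), ?_⟩
  rw [← eval_poly, poly_coeff n (homogeneousComponent_isHomogeneous n P)]
  have h1 : P - homogeneousComponent n P ∈ idealOfVars (Fin c) B ^ (n + 1) := by
    rw [mem_pow_idealOfVars_iff]
    intro x hx
    rw [mem_support_iff, coeff_sub, coeff_homogeneousComponent] at hx
    by_contra hlt
    rw [mem_pow_idealOfVars_iff'] at hP
    have hlt' : x.degree < n ∨ x.degree = n := by omega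
    rcases hlt' with h | h
    · rw [if_neg (by omega), hP x h] at hx
      exact hx (sub_zero _)
    · rw [if_pos h] at hx
      exact hx (sub_self _)
  have h2 := eval_mem_pow f h1
  rwa [map_sub, hPr] at h2

/-- reduction of coefficients -/
noncomputable def rho : (D c n → B) →ₗ[B] (D c n → B ⧸ Ideal.span (Set.range f)) :=
  LinearMap.pi fun d => (Submodule.mkQ (Ideal.span (Set.range f))).comp (LinearMap.proj d)

theorem rho_apply (b : D c n → B) (d : D c n) :
    rho f n b d = Ideal.Quotient.mk (Ideal.span (Set.range f)) (b d) := rfl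

theorem rho_surjective : Function.Surjective (rho f n) := by
  intro b
  choose a ha using fun d => Ideal.Quotient.mk_surjective (b d)
  exact ⟨a, funext fun d => ha d⟩

theorem mem_ker_rho (b : D c n → B) :
    b ∈ LinearMap.ker (rho f n) ↔ ∀ d, b d ∈ Ideal.span (Set.range f) := by
  rw [LinearMap.mem_ker]
  constructor
  · intro h d
    exact Ideal.Quotient.eq_zero_iff_mem.mp (congrFun h d)
  · intro h
    funext d
    exact Ideal.Quotient.eq_zero_iff_mem.mpr (h d)

theorem exists_lam (hf : CAlgX.IsQuasiRegular f) :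
    ∃ l : (D c n → B ⧸ Ideal.span (Set.range f)) →ₗ[B] (B ⧸ Ideal.span (Set.range f) ^ (n + 1)),
      Function.Injective l ∧
      (∀ b, l (rho f n b) = Submodule.mkQ (Ideal.span (Set.range f) ^ (n + 1)) (mu f n b)) := by
  let J : Ideal B := Ideal.span (Set.range f)
  let ψ : (D c n → B) →ₗ[B] (B ⧸ J ^ (n + 1)) := (Submodule.mkQ (J ^ (n + 1))).comp (mu f n)
  have hker : LinearMap.ker ψ = LinearMap.ker (rho f n) := by
    ext b
    rw [mem_ker_rho]
    have h1 : b ∈ LinearMap.ker ψ ↔ mu f n b ∈ J ^ (n + 1) := by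
      rw [LinearMap.mem_ker]
      exact Submodule.Quotient.mk_eq_zero _
    rw [h1]
    exact ⟨fun h d => of_mu_mem f n hf b h d, fun h => mu_mem_of f n b h⟩
  let e := (rho f n).quotKerEquivOfSurjective (rho_surjective f n)
  let l0 : ((D c n → B) ⧸ LinearMap.ker (rho f n)) →ₗ[B] (B ⧸ J ^ (n + 1)) :=
    Submodule.liftQ _ ψ hker.ge
  have hl0 : Function.Injective l0 := by
    rw [← LinearMap.ker_eq_bot, Submodule.ker_liftQ_eq_bot]
    exact hker.le
  refine ⟨l0.comp e.symm.toLinearMap, hl0.comp e.symm.injective, fun b => ?_⟩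
  have h2 : e.symm (rho f n b) = Submodule.Quotient.mk b := by
    rw [LinearEquiv.symm_apply_eq]
    rfl
  change l0 (e.symm (rho f n b)) = _
  rw [h2]
  rfl

end Graded

section Flat

variable {A B : Type u} [CommRing A] [CommRing B] [Algebra A B] {c : ℕ} (f : Fin c → B)

theorem factor_exact {n : ℕ}
    (l : (D c n → B ⧸ Ideal.span (Set.range f)) →ₗ[B] (B ⧸ Ideal.span (Set.range f) ^ (n + 1)))
    (hl : ∀ b, l (rho f n b) = Submodule.mkQ (Ideal.span (Set.range f) ^ (n + 1)) (mu f n b)) :
    Function.Exact l (Submodule.mapQ (Ideal.span (Set.range f) ^ (n + 1))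
      (Ideal.span (Set.range f) ^ n) LinearMap.id (Ideal.pow_le_pow_right (Nat.le_succ n))) := by
  intro x
  obtain ⟨r, rfl⟩ := Submodule.mkQ_surjective _ x
  constructor
  · intro h
    have hr : r ∈ Ideal.span (Set.range f) ^ n := (Submodule.Quotient.mk_eq_zero _).mp h
    obtain ⟨b, hb⟩ := exists_mu_sub_mem f n r hr
    refine ⟨rho f n b, ?_⟩
    rw [hl]
    symm
    exact (Submodule.Quotient.eq _).mpr hb
  · rintro ⟨b, hb⟩
    obtain ⟨b, rfl⟩ := rho_surjective f n b
    rw [← hb, hl]
    exact (Submodule.Quotient.mk_eq_zero _).mpr (mu_mem f n b)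

/-- `B/Jⁿ` is flat over `A` if `B/J` is. -/
theorem flat_quotient_pow (hflat : Module.Flat A (B ⧸ Ideal.span (Set.range f)))
    (hf : CAlgX.IsQuasiRegular f) (n : ℕ) :
    Module.Flat A (B ⧸ Ideal.span (Set.range f) ^ n) := by
  induction n with
  | zero =>
    have : Subsingleton (B ⧸ Ideal.span (Set.range f) ^ 0) := by
      rw [Ideal.Quotient.subsingleton_iff]
      simp
    infer_instance
  | succ n ih =>
    obtain ⟨l, hl, hl2⟩ := exists_lam f n hf
    let g := Submodule.mapQ (Ideal.span (Set.range f) ^ (n + 1))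
      (Ideal.span (Set.range f) ^ n) (LinearMap.id (R := B)) (Ideal.pow_le_pow_right (Nat.le_succ n))
    refine FlatExt.flat_of_exact (l.restrictScalars A) (g.restrictScalars A) hl ?_
      (factor_exact f l hl2) (FlatExt.flat_pi hflat) ih
    intro y
    obtain ⟨r, rfl⟩ := Submodule.mkQ_surjective _ y
    exact ⟨Submodule.mkQ _ r, rfl⟩

end Flat

end K581.QRegBC
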