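import Groth.Agent.CAlgX.K581.GenDetDim
import Mathlib.RingTheory.Ideal.KrullsHeightTheorem
import Mathlib.RingTheory.Jacobson.Ring
import Mathlib.FieldTheory.IsAlgClosed.Basic

/-!
# Linear sections of the cone of rank one matrices (Hopf's lemma)
-/

set_option autoImplicit false
universe u v

namespace K581.RankOne

open CAlgX Matrix Groth.Agent.CalgB.Minors K581.GenDet K581.TrdegDim K581.GenDetDim

variable (k : Type u) [Field k]

/-- the entries of the product of `[1; T]` and `Z` -/
theorem trdeg_ge' (r c m : ℕ) (hrm : r ≤ m) :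
    ∃ φ : MvPolynomial (Fin (r + c) × Fin m) k →ₐ[k]
        MvPolynomial ((Fin c × Fin r) ⊕ (Fin r × Fin m)) k,
      (∀ x ∈ minorIdeal (gm k (r + c) m) (r + 1), φ x = 0) ∧
      (∃ θ : MvPolynomial ((Fin c × Fin r) ⊕ (Fin r × Fin m)) k →ₐ[k] k,
        ∀ i j, θ (φ (MvPolynomial.X (i, j))) = 0) ∧
      Algebra.trdeg k φ.range = ((r * (m + c) : ℕ) : Cardinal.{u}) := by
  classical
  let E := MvPolynomial ((Fin c × Fin r) ⊕ (Fin r × Fin m)) k
  let T : Matrix (Fin c) (Fin r) E := Matrix.of fun i j => MvPolynomial.X (Sum.inl (i, j))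
  let Z : Matrix (Fin r) (Fin m) E := Matrix.of fun i j => MvPolynomial.X (Sum.inr (i, j))
  let Y : Matrix (Fin (r + c)) (Fin r) E := Matrix.of fun i j =>
    Fin.addCases (motive := fun _ => E) (fun a => (1 : Matrix (Fin r) (Fin r) E) a j)
      (fun a => T a j) i
  let φ : MvPolynomial (Fin (r + c) × Fin m) k →ₐ[k] E :=
    MvPolynomial.aeval fun ij => (Y * Z) ij.1 ij.2
  have hφX : ∀ i j, φ (MvPolynomial.X (i, j)) = (Y * Z) i j := fun i j => by
    simp only [φ, MvPolynomial.aeval_X]
  have hφ : (gm k (r + c) m).map (φ : MvPolynomial (Fin (r + c) × Fin m) k →+* E) = Y * Z := by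
    ext1 i j
    exact hφX i j
  refine ⟨φ, ?_, ⟨MvPolynomial.aeval fun _ => 0, fun i j => ?_⟩, ?_⟩
  · intro x hx
    have h1 := minorIdeal_map (φ : MvPolynomial (Fin (r + c) × Fin m) k →+* E)
      (gm k (r + c) m) (r + 1)
    have h2 : φ x ∈ (minorIdeal (gm k (r + c) m) (r + 1)).map
      (φ : MvPolynomial (Fin (r + c) × Fin m) k →+* E) := Ideal.mem_map_of_mem _ hx
    rw [← h1, hφ] at h2
    have h3 := minorIdeal_mul_le_right _ _ _ h2
    rw [minorIdeal_eq_bot_of_card_lt _ (by simp)] at h3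
    exact h3
  · rw [hφX, Matrix.mul_apply, map_sum]
    refine Finset.sum_eq_zero fun l _ => ?_
    rw [map_mul]
    have h1 : (MvPolynomial.aeval fun _ => (0 : k)) (Z l j) = 0 := by
      simp only [Z, Matrix.of_apply, MvPolynomial.aeval_X]
    rw [h1, mul_zero]
  · have hYZ : ∀ i j, (Y * Z) i j ∈ φ.range := fun i j => ⟨_, hφX i j⟩
    have hZ : ∀ i j, Z i j ∈ φ.range := by
      intro i j
      have h1 : (Y * Z) (Fin.castAdd c i) j = Z i j := by
        rw [Matrix.mul_apply]
        simp only [Y, Matrix.of_apply, Fin.addCases_left, Matrix.one_apply, ite_mul, one_mul,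
          zero_mul, Finset.sum_ite_eq, Finset.mem_univ, if_true]
      rw [← h1]
      exact hYZ _ _
    let Z' : Matrix (Fin r) (Fin r) E := Z.submatrix id (Fin.castLE hrm)
    have hTZ : ∀ i j, (T * Z') i j ∈ φ.range := by
      intro i j
      have h1 : (Y * Z) (Fin.natAdd r i) (Fin.castLE hrm j) = (T * Z') i j := by
        rw [Matrix.mul_apply, Matrix.mul_apply]
        simp only [Y, Matrix.of_apply, Fin.addCases_right, Z', Matrix.submatrix_apply, id]
      rw [← h1]
      exact hYZ _ _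
    have hdet0 : Z'.det ≠ 0 := by
      intro h0
      have h2 := congrArg (MvPolynomial.eval (fun x : (Fin c × Fin r) ⊕ (Fin r × Fin m) =>
        Sum.elim (fun _ => (0 : k)) (fun ij => if (ij.1 : ℕ) = (ij.2 : ℕ) then (1 : k) else 0) x)) h0
      rw [map_zero, RingHom.map_det] at h2
      have h3 : (MvPolynomial.eval (fun x : (Fin c × Fin r) ⊕ (Fin r × Fin m) =>
        Sum.elim (fun _ => (0 : k)) (fun ij => if (ij.1 : ℕ) = (ij.2 : ℕ) then (1 : k) else 0)
          x)).mapMatrix Z' = 1 := by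
        ext i j
        simp [Matrix.one_apply, Fin.ext_iff, Z', Z]
      rw [h3, Matrix.det_one] at h2
      exact one_ne_zero h2
    have hdet : Z'.det ∈ φ.range := det_mem_sub _ _ fun i j => hZ _ _
    have halg : Algebra.IsAlgebraic φ.range E := by
      refine isAlgebraic_of_adjoin φ.range _ (MvPolynomial.adjoin_range_X) ?_
      rintro _ ⟨x, rfl⟩
      rcases x with ⟨i, j⟩ | ⟨i, j⟩
      · refine ⟨Z'.det, hdet, hdet0, ?_⟩
        have h1 : (T * Z' * Z'.adjugate) i j = Z'.det * T i j := by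
          rw [Matrix.mul_assoc, Matrix.mul_adjugate, Matrix.mul_smul, Matrix.mul_one]
          rfl
        have h2 : Z'.det * T i j ∈ φ.range := by
          rw [← h1]
          exact mul_mem_sub _ _ _ hTZ (adjugate_mem_sub _ _ fun i j => hZ _ _) i j
        exact h2
      · refine ⟨1, Subalgebra.one_mem _, one_ne_zero, ?_⟩
        rw [one_mul]
        exact hZ i j
    have h1 := trdeg_add_eq (R := k) (S := φ.range) (A := E)
    rw [trdeg_eq_zero (R := φ.range) (A := E), add_zero, MvPolynomial.trdeg_of_isDomain] at h1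
    rw [h1, Cardinal.mk_fintype]
    simp only [Fintype.card_sum, Fintype.card_prod, Fintype.card_fin]
    rw [Cardinal.lift_natCast]
    congr 1
    ring


/-- a nonzero matrix all of whose `2 × 2` minors vanish is a product -/
lemma exists_eq_mul {a b : ℕ} (z : Matrix (Fin a) (Fin b) k) (hz : minorIdeal z 2 = ⊥)
    (i₀ : Fin a) (j₀ : Fin b) (h : z i₀ j₀ ≠ 0) (i : Fin a) (j : Fin b) :
    z i j = z i j₀ * ((z i₀ j₀)⁻¹ * z i₀ j) := by
  rw [minorIdeal_eq_bot_iff] at hz
  have h1 := hz ![i, i₀] ![j, j₀]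
  rw [Matrix.det_fin_two] at h1
  simp only [Matrix.submatrix_apply, Matrix.cons_val_zero, Matrix.cons_val_one] at h1
  field_simp
  linear_combination h1

/-- if `c` linear forms on `k^{a × b}` vanish at no nonzero matrix of rank one then
`a + b ≤ c + 1` -/
theorem hopf [IsAlgClosed k] (a b c : ℕ) (hb : 1 ≤ b) (F : Fin c → Fin (1 + a) → Fin b → k)
    (hF : ∀ (u : Fin (1 + a) → k) (v : Fin b → k), u ≠ 0 → v ≠ 0 →
      ∃ l, ∑ i, ∑ j, F l i j * (u i * v j) ≠ 0) : b + a ≤ c := by
  classical
  obtain ⟨φ, hφ, ⟨θ, hθ⟩, htr⟩ := trdeg_ge' k 1 a b hb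
  have : Algebra.FiniteType k φ.range :=
    Algebra.FiniteType.of_surjective φ.rangeRestrict φ.rangeRestrict_surjective
  obtain ⟨d, hd1, hd2, hd3⟩ := Groth.Agent.CalgC.DimFT.exists_dim (k := k) φ.range
  rw [hd2, Nat.cast_inj] at htr
  let e : Fin (1 + a) → Fin b → φ.range := fun i j => ⟨φ (MvPolynomial.X (i, j)), ⟨_, rfl⟩⟩
  -- the vertex
  let θ' : φ.range →ₐ[k] k := θ.comp φ.range.val
  have hθ' : ∀ i j, θ' (e i j) = 0 := fun i j => hθ i j
  let 𝔫 : Ideal φ.range := RingHom.ker θ'
  have hθs : Function.Surjective θ' := fun x => ⟨algebraMap k _ x, by simp⟩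
  have h𝔫 : 𝔫.IsMaximal := RingHom.ker_isMaximal_of_surjective θ' hθs
  -- algebra homs are determined by the entries
  have hext : ∀ (ψ : φ.range →ₐ[k] k), (∀ i j, ψ (e i j) = 0) → ψ = θ' := by
    intro ψ hψ
    have h1 : ψ.comp φ.rangeRestrict = θ'.comp φ.rangeRestrict := by
      apply MvPolynomial.algHom_ext
      rintro ⟨i, j⟩
      change ψ (e i j) = θ' (e i j)
      rw [hψ, hθ']
    ext x
    obtain ⟨y, rfl⟩ := φ.rangeRestrict_surjective x
    exact DFunLike.congr_fun h1 y
  let G : Fin c → φ.range := fun l => ∑ i, ∑ j, F l i j • e i j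
  let s : Finset φ.range := Finset.univ.image G
  have hmin : 𝔫 ∈ (Ideal.span (s : Set φ.range)).minimalPrimes := by
    refine ⟨⟨h𝔫.isPrime, ?_⟩, ?_⟩
    · rw [Ideal.span_le]
      intro x hx
      obtain ⟨l, _, rfl⟩ := Finset.mem_image.1 (Finset.mem_coe.1 hx)
      change θ' (G l) = 0
      simp only [G, map_sum, map_smul, hθ', smul_zero, Finset.sum_const_zero]
    · rintro q ⟨hq, hsq⟩ hq𝔫
      have hJ : IsJacobsonRing φ.range := isJacobsonRing_of_finiteType (A := k)
      have hjac : q.jacobson = q := isJacobsonRing_iff.1 hJ q hq.isRadical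
      rw [← hjac]
      refine le_sInf ?_
      rintro M ⟨hqM, hM⟩
      -- the residue field is `k`
      let _ : Field (φ.range ⧸ M) := Ideal.Quotient.field M
      have hfin : Module.Finite k (φ.range ⧸ M) := finite_of_finite_type_of_isJacobsonRing k _
      have hbij : Function.Bijective (algebraMap k (φ.range ⧸ M)) :=
        IsAlgClosed.algebraMap_bijective_of_isIntegral
      let ε : k ≃ₐ[k] (φ.range ⧸ M) := AlgEquiv.ofBijective (Algebra.ofId k _) hbij
      let ψ : φ.range →ₐ[k] k := ε.symm.toAlgHom.comp (Ideal.Quotient.mkₐ k M)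
      have hψ : ∀ x, ψ x = 0 ↔ x ∈ M := by
        intro x
        change ε.symm (Ideal.Quotient.mk M x) = 0 ↔ x ∈ M
        rw [EmbeddingLike.map_eq_zero_iff, Ideal.Quotient.eq_zero_iff_mem]
      let z : Matrix (Fin (1 + a)) (Fin b) k := Matrix.of fun i j => ψ (e i j)
      have hz2 : minorIdeal z 2 = ⊥ := by
        have h1 := minorIdeal_map ((ψ.comp φ.rangeRestrict :
          MvPolynomial (Fin (1 + a) × Fin b) k →ₐ[k] k) : _ →+* k) (gm k (1 + a) b) 2
        have h2 : (gm k (1 + a) b).map ((ψ.comp φ.rangeRestrict :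
          MvPolynomial (Fin (1 + a) × Fin b) k →ₐ[k] k) : _ →+* k) = z := rfl
        rw [h2] at h1
        rw [h1, Ideal.map_eq_bot_iff_le_ker]
        intro x hx
        change ψ (φ.rangeRestrict x) = 0
        have h3 : φ.rangeRestrict x = 0 := Subtype.ext (hφ x hx)
        rw [h3, map_zero]
      by_cases hz : ∀ i j, z i j = 0
      · have h1 := hext ψ hz
        intro x hx
        rw [← hψ, h1]
        exact hx
      · exfalso
        push Not at hz
        obtain ⟨i₀, j₀, hz0⟩ := hz
        obtain ⟨l, hl⟩ := hF (fun i => z i j₀) (fun j => (z i₀ j₀)⁻¹ * z i₀ j)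
          (fun h => hz0 (congrFun h i₀)) (fun h => by
            have h1 := congrFun h j₀
            simp only [inv_mul_cancel₀ hz0] at h1
            exact one_ne_zero h1)
        apply hl
        have h1 : G l ∈ M := hqM (hsq (Ideal.subset_span
          (Finset.mem_coe.2 (Finset.mem_image_of_mem G (Finset.mem_univ l)))))
        rw [← hψ] at h1
        rw [← h1]
        simp only [G, map_sum, map_smul, smul_eq_mul]
        refine Finset.sum_congr rfl fun i _ => Finset.sum_congr rfl fun j _ => ?_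
        rw [← exists_eq_mul k z hz2 i₀ j₀ hz0 i j]
        rfl
  have h1 := Ideal.height_le_card_of_mem_minimalPrimes_span_finset hmin
  rw [hd3 𝔫 h𝔫, htr] at h1
  have h2 : s.card ≤ c := Finset.card_image_le.trans (by simp)
  have h3 : 1 * (b + a) ≤ s.card := by exact_mod_cast h1
  omega

end K581.RankOne
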