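import Groth.Agent.CAlgX.K581.FFR

/-!
# Linear forms as one-row matrices
-/

set_option autoImplicit false
universe u

namespace K581.RowMat

open CAlgX Matrix Groth.Agent.CalgB.Minors Groth.Agent.CalgB.BuchEis

variable {R : Type u} [CommRing R] {n : ℕ}

/-- the row matrix of a linear form -/
def row (π : (Fin n → R) →ₗ[R] R) : Matrix (Fin 1) (Fin n) R := fun _ j => π (Pi.single j 1)

lemma row_mulVec (π : (Fin n → R) →ₗ[R] R) (v : Fin n → R) (i : Fin 1) :
    (row π *ᵥ v) i = π v := by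
  conv_rhs => rw [pi_eq_sum_univ' v, map_sum]
  simp only [Matrix.mulVec, dotProduct, row, map_smul, smul_eq_mul]
  exact Finset.sum_congr rfl fun j _ => mul_comm _ _

lemma row_mulVec_eq_zero (π : (Fin n → R) →ₗ[R] R) (v : Fin n → R) :
    row π *ᵥ v = 0 ↔ π v = 0 := by
  constructor
  · intro h
    rw [← row_mulVec π v 0, h]; rfl
  · intro h
    ext i
    rw [row_mulVec, h]; rfl

lemma minorIdeal_row (π : (Fin n → R) →ₗ[R] R) : minorIdeal (row π) 1 = LinearMap.range π := by
  apply le_antisymm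
  · rw [minorIdeal_le_iff]
    intro f g
    rw [Matrix.det_fin_one]
    exact ⟨_, rfl⟩
  · rintro _ ⟨v, rfl⟩
    rw [pi_eq_sum_univ' v, map_sum]
    refine Ideal.sum_mem _ fun j _ => ?_
    rw [map_smul, smul_eq_mul]
    refine Ideal.mul_mem_left _ _ ?_
    have := det_mem_minorIdeal (row π) (r := 1) (fun _ => 0) (fun _ => j)
    rwa [Matrix.det_fin_one] at this

lemma row_ne_zero (π : (Fin n → R) →ₗ[R] R) (h : LinearMap.range π ≠ ⊥) : row π ≠ 0 := by
  intro h0
  apply h
  rw [← minorIdeal_row, minorIdeal_eq_bot_iff]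
  intro f g
  rw [Matrix.det_fin_one, h0]
  rfl

end K581.RowMat
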