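import Groth.Agent.CalgC.DimFT
import Mathlib.RingTheory.KrullDimension.NonZeroDivisors
import Mathlib.RingTheory.AlgebraicIndependent.TranscendenceBasis

/-!
# Dimension bounds through transcendence degrees
-/

set_option autoImplicit false
universe u v

namespace K581.TrdegDim

theorem ringKrullDim_le_of_forall {B : Type u} [CommRing B] (N : WithBot ℕ∞)
    (h : ∀ P : Ideal B, P.IsPrime → ringKrullDim (B ⧸ P) ≤ N) : ringKrullDim B ≤ N := by
  refine iSup_le fun l => ?_
  have h1 := h l.head.asIdeal l.head.isPrime
  rw [ringKrullDim_quotient] at h1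
  let l' : LTSeries (PrimeSpectrum.zeroLocus (R := B) l.head.asIdeal) :=
    { length := l.length
      toFun := fun i => ⟨l i, LTSeries.head_le l i⟩
      step := fun i => l.step i }
  exact (Order.LTSeries.length_le_krullDim l').trans h1

/-- an algebra generated by algebraic elements is algebraic -/
theorem isAlgebraic_of_adjoin {k : Type u} {D : Type v} [Field k] [CommRing D] [IsDomain D]
    [Algebra k D] (D' : Subalgebra k D) (T : Set D) (hT : Algebra.adjoin k T = ⊤)
    (h : ∀ t ∈ T, ∃ δ ∈ D', δ ≠ 0 ∧ δ * t ∈ D') : Algebra.IsAlgebraic D' D := by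
  refine ⟨fun x => ?_⟩
  have hx : x ∈ Algebra.adjoin k T := by rw [hT]; trivial
  induction hx using Algebra.adjoin_induction with
  | mem t ht =>
    obtain ⟨δ, hδ, hδ0, hδt⟩ := h t ht
    refine ⟨Polynomial.C ⟨δ, hδ⟩ * Polynomial.X - Polynomial.C ⟨δ * t, hδt⟩, ?_, ?_⟩
    · intro h0
      have h1 := congrArg (fun p => Polynomial.coeff p 1) h0
      simp at h1
      exact hδ0 (congrArg Subtype.val h1)
    · simp
  | algebraMap r => 
    have : algebraMap k D r = algebraMap D' D (algebraMap k D' r) := rfl
    rw [this]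
    exact isAlgebraic_algebraMap _
  | add x y _ _ hx hy => exact hx.add hy
  | mul x y _ _ hx hy => exact hx.mul hy

end K581.TrdegDim
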